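/-
No finite group has exactly 22 Sylow 3-subgroups: the permutation configuration.
-/
import Mathlib
import Cfsg.Agent.PermGen.Jordan

set_option linter.style.haveILetI false
set_option linter.unusedSectionVars false
set_option autoImplicit false

namespace Cfsg.Lib.SolvStruct.TwentyTwo

open Equiv Equiv.Perm MulAction Subgroup
open scoped Pointwise

universe u

variable {α : Type u} [Fintype α] [DecidableEq α]

/-- A transitive group of even permutations of 22 points with Sylow 3-subgroups indexed by points. -/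
structure Cfg (G : Subgroup (Perm α)) (P : α → Subgroup (Perm α)) : Prop where
  card : Fintype.card α = 22
  even : ∀ g ∈ G, sign g = 1
  trans : ∀ a b : α, ∃ g ∈ G, g a = b
  le : ∀ a, P a ≤ G
  pgroup : ∀ a, IsPGroup 3 (P a)
  fix : ∀ a, ∀ g ∈ P a, g a = a
  moves : ∀ a q, q ≠ a → ∃ g ∈ P a, g q ≠ q
  conj : ∀ g ∈ G, ∀ a, ∀ x ∈ P a, g * x * g⁻¹ ∈ P (g a)
  sylow : ∀ a, ¬ 3 ∣ (P a).relIndex G

/-- The stabiliser of a point in `G`. -/
def stab (G : Subgroup (Perm α)) (a : α) : Subgroup (Perm α) := G ⊓ MulAction.stabilizer (Perm α) a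

theorem mem_stab {G : Subgroup (Perm α)} {a : α} {g : Perm α} : g ∈ stab G a ↔ g ∈ G ∧ g a = a := Iff.rfl

/-- The orbit of `q` under `P a`. -/
def orb (P : α → Subgroup (Perm α)) (a q : α) : Set α := MulAction.orbit (P a) q

theorem mem_orb {P : α → Subgroup (Perm α)} {a q r : α} : r ∈ orb P a q ↔ ∃ g ∈ P a, g q = r :=
  ⟨fun ⟨g, hg⟩ => ⟨g, g.2, hg⟩, fun ⟨g, hg, h⟩ => ⟨⟨g, hg⟩, h⟩⟩

theorem mem_orb_self (P : α → Subgroup (Perm α)) (a q : α) : q ∈ orb P a q := MulAction.mem_orbit_self q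

theorem orb_eq {P : α → Subgroup (Perm α)} {a q r : α} (h : r ∈ orb P a q) : orb P a r = orb P a q :=
  MulAction.orbit_eq_iff.2 h

theorem apply_mem_orb {P : α → Subgroup (Perm α)} {a q r : α} {g : Perm α} (hg : g ∈ P a)
    (h : r ∈ orb P a q) : g r ∈ orb P a q := by
  rw [← orb_eq h, mem_orb]
  exact ⟨g, hg, rfl⟩

/-- The fixed point set of a permutation. -/
def fixS (g : Perm α) : Set α := {z | g z = z}

theorem mem_fixS {g : Perm α} {z : α} : z ∈ fixS g ↔ g z = z := Iff.rfl

theorem fixS_ncard (g : Perm α) : (fixS g).ncard = g.supportᶜ.card := by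
  rw [← Set.ncard_coe_finset]
  congr 1
  ext z
  simp [mem_fixS]

theorem fixS_add_support (g : Perm α) : (fixS g).ncard + g.support.card = Fintype.card α := by
  rw [fixS_ncard, Finset.card_compl]
  have := g.support.card_le_univ
  omega

/-- Fixed points on an invariant finite set, modulo a prime. -/
theorem card_fixed_modEq {p n : ℕ} [Fact p.Prime] {g : Perm α} (hg : g ^ p ^ n = 1) (S : Finset α)
    (hS : ∀ z ∈ S, g z ∈ S) : (S.filter fun z => g z = z).card ≡ S.card [MOD p] := by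
  have hinv : ∀ z, g z ∈ S ↔ z ∈ S := by
    intro z
    refine ⟨fun hz => ?_, hS z⟩
    have himg : S.image g = S := Finset.eq_of_subset_of_card_le
      (Finset.image_subset_iff.2 hS) (by rw [Finset.card_image_of_injective _ g.injective])
    obtain ⟨y, hy, hyz⟩ := Finset.mem_image.1 (himg.symm ▸ hz : g z ∈ S.image g)
    exact g.injective hyz ▸ hy
  set σ : Perm {z // z ∈ S} := g.subtypePerm hinv with hσ
  have hσp : σ ^ p ^ n = 1 := by
    rw [hσ, Equiv.Perm.subtypePerm_pow]
    ext z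
    simp [hg]
  have h := card_compl_support_modEq hσp
  rw [Fintype.card_coe] at h
  convert h using 1
  refine Finset.card_bij (fun z hz => ⟨z, (Finset.mem_filter.1 hz).1⟩) ?_ ?_ ?_
  · intro z hz
    simp [hσ, Subtype.ext_iff, (Finset.mem_filter.1 hz).2]
  · intro z _ z' _ e
    exact congrArg Subtype.val e
  · intro z hz
    refine ⟨z.1, Finset.mem_filter.2 ⟨z.2, ?_⟩, rfl⟩
    simp [hσ, Subtype.ext_iff] at hz
    exact hz

/-- Orbit-stabiliser for a subgroup of the symmetric group. -/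
theorem card_orbit_mul (H : Subgroup (Perm α)) (a : α) :
    (MulAction.orbit H a).ncard * Nat.card (stab H a) = Nat.card H := by
  have h1 : (stab H a).subgroupOf H = MulAction.stabilizer H a := by
    ext g
    exact ⟨fun hg => hg.2, fun hg => ⟨g.2, hg⟩⟩
  have h2 := relIndex_mul_relIndex (⊥ : Subgroup (Perm α)) (stab H a) H bot_le inf_le_left
  rw [relIndex_bot_left, relIndex_bot_left] at h2
  rw [← h2, mul_comm]
  congr 1
  rw [relIndex, h1, index_stabilizer]

variable {G : Subgroup (Perm α)} {P : α → Subgroup (Perm α)}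

theorem Cfg.conj_iff (h : Cfg G P) {g : Perm α} (hg : g ∈ G) {a : α} {x : Perm α} :
    g * x * g⁻¹ ∈ P (g a) ↔ x ∈ P a := by
  refine ⟨fun hx => ?_, h.conj g hg a x⟩
  have h1 := h.conj g⁻¹ (G.inv_mem hg) (g a) _ hx
  have h2 : g⁻¹ * (g * x * g⁻¹) * g⁻¹⁻¹ = x := by group
  have h3 : g⁻¹ (g a) = a := g.symm_apply_apply a
  rwa [h2, h3] at h1

theorem Cfg.map_conj (h : Cfg G P) {g : Perm α} (hg : g ∈ G) (a : α) :
    (P a).map (MulAut.conj g).toMonoidHom = P (g a) := by
  ext y
  constructor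
  · rintro ⟨x, hx, rfl⟩
    exact h.conj g hg a x hx
  · intro hy
    refine ⟨g⁻¹ * y * g, ?_, by simp [mul_assoc]⟩
    rw [SetLike.mem_coe, ← h.conj_iff hg]
    simpa [mul_assoc] using hy

theorem Cfg.card_P (h : Cfg G P) (a b : α) : Nat.card (P a) = Nat.card (P b) := by
  obtain ⟨g, hg, rfl⟩ := h.trans a b
  rw [← h.map_conj hg a, card_map_of_injective (MulAut.conj g).injective]

theorem Cfg.conj_mem_self (h : Cfg G P) {g : Perm α} (hg : g ∈ G) {a : α} (hga : g a = a)
    {x : Perm α} (hx : x ∈ P a) : g * x * g⁻¹ ∈ P a := by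
  have := h.conj g hg a x hx
  rwa [hga] at this

theorem Cfg.P_le_stab (h : Cfg G P) (a : α) : P a ≤ stab G a := fun g hg => ⟨h.le a hg, h.fix a g hg⟩

theorem Cfg.mem_of_fix (h : Cfg G P) {x : Perm α} (hx : x ∈ G) {a : α} (hxa : x a = a) {k : ℕ}
    (hk : x ^ 3 ^ k = 1) : x ∈ P a := by
  haveI : Fact (Nat.Prime 3) := ⟨Nat.prime_three⟩
  have hz : IsPGroup 3 (zpowers x) := by
    rintro ⟨y, i, rfl⟩
    refine ⟨k, Subtype.ext ?_⟩
    rw [SubmonoidClass.coe_pow, OneMemClass.coe_one]
    show (x ^ i) ^ 3 ^ k = 1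
    rw [← zpow_natCast, zpow_comm, zpow_natCast, hk, one_zpow]
  have hn : zpowers x ≤ normalizer (P a : Set (Perm α)) := by
    rw [zpowers_le]
    exact mem_normalizer_fintype fun g hg => h.conj_mem_self hx hxa hg
  have hS := IsPGroup.to_sup_of_normal_right' hz (h.pgroup a) hn
  set S : Subgroup (Perm α) := zpowers x ⊔ P a with hSdef
  have hSG : S ≤ G := sup_le (zpowers_le.2 hx) (h.le a)
  have hd : (P a).relIndex S ∣ (P a).relIndex G :=
    Dvd.intro _ (relIndex_mul_relIndex (P a) S G le_sup_right hSG)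
  obtain ⟨n, hn⟩ := IsPGroup.iff_card.1 hS
  have hd2 : (P a).relIndex S ∣ 3 ^ n := hn ▸ ((P a).subgroupOf S).index_dvd_card
  obtain ⟨m, -, hm⟩ := (Nat.dvd_prime_pow Nat.prime_three).1 hd2
  rcases m with _ | m
  · exact relIndex_eq_one.1 (hm.trans (pow_zero 3)) (mem_sup_left (mem_zpowers x))
  · exact absurd ((Dvd.intro_left (3 ^ m) (pow_succ 3 m).symm).trans (hm ▸ hd)) (h.sylow a)

theorem Cfg.exists_pow (h : Cfg G P) {a : α} {x : Perm α} (hx : x ∈ P a) : ∃ k : ℕ, x ^ 3 ^ k = 1 := by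
  obtain ⟨k, hk⟩ := h.pgroup a ⟨x, hx⟩
  exact ⟨k, congrArg Subtype.val hk⟩

theorem Cfg.mem_P_of_fix (h : Cfg G P) {a b : α} {x : Perm α} (hx : x ∈ P a) (hxb : x b = b) :
    x ∈ P b := by
  obtain ⟨k, hk⟩ := h.exists_pow hx
  exact h.mem_of_fix (h.le a hx) hxb hk

theorem Cfg.orb_image (h : Cfg G P) {g : Perm α} (hg : g ∈ G) (a q : α) :
    g '' orb P a q = orb P (g a) (g q) := by
  ext r
  rw [mem_orb]
  constructor
  · rintro ⟨z, hz, rfl⟩
    obtain ⟨x, hx, rfl⟩ := mem_orb.1 hz
    exact ⟨g * x * g⁻¹, h.conj g hg a x hx, by simp⟩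
  · rintro ⟨y, hy, rfl⟩
    refine ⟨(g⁻¹ * y * g) q, mem_orb.2 ⟨g⁻¹ * y * g, ?_, rfl⟩, by simp⟩
    rw [← h.conj_iff hg]
    simpa [mul_assoc] using hy

theorem Cfg.self_notMem_orb (h : Cfg G P) {a q : α} (hq : q ≠ a) : a ∉ orb P a q := by
  rintro hm
  obtain ⟨g, hg, hgq⟩ := mem_orb.1 hm
  exact hq (g.injective (hgq.trans (h.fix a g hg).symm))

theorem Cfg.ne_of_mem_orb (h : Cfg G P) {a q r : α} (hq : q ≠ a) (hr : r ∈ orb P a q) : r ≠ a :=
  fun e => h.self_notMem_orb hq (e ▸ hr)

theorem Cfg.orb_card (h : Cfg G P) {a q : α} (hq : q ≠ a) :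
    (orb P a q).ncard = 3 ∨ (orb P a q).ncard = 9 := by
  haveI : Fact (Nat.Prime 3) := ⟨Nat.prime_three⟩
  obtain ⟨n, hn⟩ := (h.pgroup a).card_orbit q
  rw [Nat.card_coe_set_eq] at hn
  have hle : (orb P a q).ncard ≤ 21 := by
    have hsub : orb P a q ⊆ ({a}ᶜ : Set α) := fun r hr => h.ne_of_mem_orb hq hr
    refine (Set.ncard_le_ncard hsub).trans ?_
    rw [Set.ncard_compl, Set.ncard_singleton, Nat.card_eq_fintype_card, h.card]
  change (orb P a q).ncard = 3 ^ n at hn
  rw [hn] at hle ⊢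
  rcases n with _ | _ | _ | n
  · exfalso
    obtain ⟨g, hg, hgq⟩ := h.moves a q hq
    rw [pow_zero, Set.ncard_eq_one] at hn
    obtain ⟨z, hz⟩ := hn
    have h1 : g q ∈ orb P a q := mem_orb.2 ⟨g, hg, rfl⟩
    have h2 := mem_orb_self P a q
    rw [hz, Set.mem_singleton_iff] at h1 h2
    exact hgq (h1.trans h2.symm)
  · left; norm_num
  · right; norm_num
  · exfalso
    have : 3 ^ 3 ≤ 3 ^ (n + 1 + 1 + 1) := Nat.pow_le_pow_right (by norm_num) (by omega)
    omega

open Classical in
/-- The orbits of `P a` off `a`. -/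
noncomputable def blocks (P : α → Subgroup (Perm α)) (a : α) : Finset (Set α) :=
  ({a}ᶜ : Finset α).image (orb P a)

open Classical in
theorem mem_blocks {a : α} {B : Set α} : B ∈ blocks P a ↔ ∃ q, q ≠ a ∧ orb P a q = B := by
  simp [blocks]

theorem Cfg.sum_blocks (h : Cfg G P) (a : α) : ∑ B ∈ blocks P a, B.ncard = 21 := by
  classical
  have hc : (({a}ᶜ : Finset α)).card = 21 := by
    rw [Finset.card_compl, Finset.card_singleton, h.card]
  rw [← hc, blocks, Finset.card_eq_sum_card_image (orb P a) ({a}ᶜ : Finset α)]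
  refine Finset.sum_congr rfl fun B hB => ?_
  obtain ⟨q, hq, rfl⟩ := Finset.mem_image.1 hB
  rw [Set.ncard_eq_toFinset_card']
  congr 1
  ext r
  rw [Set.mem_toFinset, Finset.mem_filter, Finset.mem_compl, Finset.mem_singleton]
  have hq' : q ≠ a := by simpa using hq
  exact ⟨fun hr => ⟨h.ne_of_mem_orb hq' hr, orb_eq hr⟩, fun hr => hr.2 ▸ mem_orb_self P a r⟩

theorem Cfg.stab_ne (h : Cfg G P) (a : α) : ∃ b, b ≠ a := by
  by_contra hc
  push Not at hc
  haveI : Subsingleton α := ⟨fun x y => (hc x).trans (hc y).symm⟩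
  have := Fintype.card_le_one_iff_subsingleton.2 (inferInstance : Subsingleton α)
  rw [h.card] at this
  omega

theorem Cfg.card_G (h : Cfg G P) (a : α) : Nat.card G = 22 * Nat.card (stab G a) := by
  rw [← card_orbit_mul G a]
  congr 1
  have : MulAction.orbit G a = Set.univ := Set.eq_univ_of_forall fun b => by
    obtain ⟨g, hg, hgb⟩ := h.trans a b
    exact ⟨⟨g, hg⟩, hgb⟩
  rw [this, Set.ncard_univ, Nat.card_eq_fintype_card, h.card]

/-- A subgroup strictly above a point stabiliser is transitive. -/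
theorem Cfg.transitive_of (h : Cfg G P) {a : α} {H : Subgroup (Perm α)} (hH : H ≤ G)
    (hs : stab G a ≤ H) (hm : ∃ g ∈ H, g a ≠ a) (b : α) : ∃ g ∈ H, g a = b := by
  haveI : Fact (Nat.Prime 3) := ⟨Nat.prime_three⟩
  have hdiv : (MulAction.orbit H a).ncard ∣ 22 := by
    have h1 : stab H a = stab G a :=
      le_antisymm (inf_le_inf_right _ hH) (fun g hg => ⟨hs hg, hg.2⟩)
    have h2 := card_orbit_mul H a
    rw [h1] at h2
    have h3 : (MulAction.orbit H a).ncard * Nat.card (stab G a) ∣ 22 * Nat.card (stab G a) := by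
      rw [h2, ← h.card_G a]
      exact card_dvd_of_le hH
    exact Nat.dvd_of_mul_dvd_mul_right Nat.card_pos h3
  have hmod : (MulAction.orbit H a).ncard ≡ 1 [MOD 3] := by
    have hK : IsPGroup 3 ((P a).subgroupOf H) := (h.pgroup a).comap_subtype
    have h1 := hK.card_modEq_card_fixedPoints (MulAction.orbit H a)
    have h2 : MulAction.fixedPoints ((P a).subgroupOf H) (MulAction.orbit H a) =
        {⟨a, MulAction.mem_orbit_self a⟩} := by
      ext ⟨z, hz⟩
      rw [Set.mem_singleton_iff, MulAction.mem_fixedPoints]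
      constructor
      · intro hfix
        refine Subtype.ext ?_
        by_contra hza
        obtain ⟨g, hg, hgz⟩ := h.moves a z hza
        exact hgz (congrArg Subtype.val (hfix ⟨⟨g, hs (h.P_le_stab a hg)⟩, hg⟩))
      · intro e g
        obtain rfl : z = a := congrArg Subtype.val e
        exact Subtype.ext (h.fix z _ g.2)
    rw [h2] at h1
    simpa [Nat.card_coe_set_eq] using h1
  have h2 : 1 < (MulAction.orbit H a).ncard := by
    obtain ⟨g, hg, hga⟩ := hm
    refine (Set.one_lt_ncard (Set.toFinite _)).2 ⟨g a, ⟨⟨g, hg⟩, rfl⟩, a, MulAction.mem_orbit_self a, hga⟩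
  have h22 : (MulAction.orbit H a).ncard = 22 := by
    have hle := Nat.le_of_dvd (by norm_num) hdiv
    generalize (MulAction.orbit H a).ncard = k at *
    interval_cases k <;> simp_all (config := {decide := true}) [Nat.ModEq]
  have huniv : MulAction.orbit H a = Set.univ := Set.eq_of_subset_of_ncard_le (Set.subset_univ _)
    (by rw [h22, Set.ncard_univ, Nat.card_eq_fintype_card, h.card])
  obtain ⟨g, hg⟩ := (huniv.symm ▸ Set.mem_univ b : b ∈ MulAction.orbit H a)
  exact ⟨g, g.2, hg⟩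

/-- A subgroup of `P a` normalised by the stabiliser and by an element moving `a` is trivial. -/
theorem Cfg.core (h : Cfg G P) {a : α} {Q : Subgroup (Perm α)} (hQ : Q ≤ P a)
    (hstab : ∀ g ∈ stab G a, ∀ x ∈ Q, g * x * g⁻¹ ∈ Q) {g₀ : Perm α} (hg₀ : g₀ ∈ G) (hga : g₀ a ≠ a)
    (hnorm : ∀ x ∈ Q, g₀ * x * g₀⁻¹ ∈ Q) : Q = ⊥ := by
  set H := G ⊓ normalizer (Q : Set (Perm α))
  have hH : ∀ g ∈ G, (∀ x ∈ Q, g * x * g⁻¹ ∈ Q) → g ∈ H := fun g hg hn =>
    ⟨hg, mem_normalizer_fintype hn⟩
  have ht := h.transitive_of (H := H) inf_le_left (fun g hg => hH g hg.1 (hstab g hg))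
    ⟨g₀, hH g₀ hg₀ hnorm, hga⟩
  refine (Subgroup.eq_bot_iff_forall Q).2 fun x hx => Equiv.ext fun b => ?_
  obtain ⟨g, hg, rfl⟩ := ht b
  have h1 : g⁻¹ * x * g⁻¹⁻¹ ∈ Q := (mem_normalizer_iff.1 (inv_mem hg.2) x).1 hx
  have h2 := h.fix a _ (hQ h1)
  simp only [inv_inv, Perm.mul_apply, Perm.inv_eq_iff_eq] at h2
  exact h2

theorem Cfg.core_of_normalised (h : Cfg G P) {a b : α} (hb : b ≠ a) {Q : Subgroup (Perm α)} (hQ : Q ≤ P a)
    (hstab : ∀ g ∈ stab G a, ∀ x ∈ Q, g * x * g⁻¹ ∈ Q)
    (hnorm : ∀ g ∈ P b, ∀ x ∈ Q, g * x * g⁻¹ ∈ Q) : Q = ⊥ := by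
  obtain ⟨g, hg, hga⟩ := h.moves b a hb.symm
  exact h.core hQ hstab (h.le b hg) hga (hnorm g hg)

theorem Cfg.preprimitive (h : Cfg G P) : IsPreprimitive G α := by
  haveI : IsPretransitive G α := ⟨fun a b => by
    obtain ⟨g, hg, hgb⟩ := h.trans a b
    exact ⟨⟨g, hg⟩, hgb⟩⟩
  obtain ⟨a⟩ : Nonempty α := Fintype.card_pos_iff.1 (by rw [h.card]; omega)
  refine IsPreprimitive.of_isTrivialBlock_base a fun {B} haB hB => ?_
  by_cases hsub : B.Subsingleton
  · exact Or.inl hsub
  right
  obtain ⟨b, hb, hba⟩ := (Set.not_subsingleton_iff.1 hsub).exists_ne a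
  set H := G ⊓ MulAction.stabilizer (Perm α) B
  have hmem : ∀ g ∈ G, g a ∈ B → g ∈ H := by
    intro g hg hga
    refine ⟨hg, ?_⟩
    have h1 : (⟨g, hg⟩ : G) • B = B :=
      hB.smul_eq_of_mem haB hga
    exact h1
  have ht := h.transitive_of (H := H) inf_le_left
    (fun g hg => hmem g hg.1 (by rw [(mem_stab.1 hg).2]; exact haB))
    (by
      obtain ⟨g, hg, hgb⟩ := h.trans a b
      exact ⟨g, hmem g hg (hgb ▸ hb), hgb ▸ hba⟩)
  refine Set.eq_univ_of_forall fun c => ?_
  obtain ⟨g, hg, rfl⟩ := ht c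
  have h1 : g • B = B := hg.2
  rw [← h1]
  exact Set.smul_mem_smul_set haB

theorem Cfg.not_threeCycle (h : Cfg G P) {x : Perm α} (hx : x ∈ G) : ¬ x.IsThreeCycle := by
  intro h3
  have hA : alternatingGroup α ≤ G :=
    alternatingGroup_le_of_isPreprimitive_of_isThreeCycle_mem h.preprimitive h3 hx
  obtain ⟨a⟩ : Nonempty α := Fintype.card_pos_iff.1 (by rw [h.card]; omega)
  have hc : 4 ≤ ({a}ᶜ : Finset α).card := by
    rw [Finset.card_compl, Finset.card_singleton, h.card]
    norm_num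
  obtain ⟨T, hT, hTc⟩ := Finset.exists_subset_card_eq hc
  obtain ⟨b, c, d, e, hbc, hbd, hbe, hcd, hce, hde, rfl⟩ := Finset.card_eq_four.1 hTc
  simp only [Finset.insert_subset_iff, Finset.singleton_subset_iff, Finset.mem_compl,
    Finset.mem_singleton] at hT
  obtain ⟨hb, hc', hd, he⟩ := hT
  have key : ∀ p q r : α, p ≠ q → p ≠ r → q ≠ r → p ≠ a → q ≠ a → r ≠ a →
      swap p q * swap p r ∈ P a := by
    intro p q r hpq hpr hqr hp hq hr
    have h3 := isThreeCycle_swap_mul_swap_same hpq hpr hqr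
    refine h.mem_of_fix (hA h3.mem_alternatingGroup) ?_ (k := 1) ?_
    · rw [Perm.mul_apply, swap_apply_of_ne_of_ne hp.symm hr.symm,
        swap_apply_of_ne_of_ne hp.symm hq.symm]
    · rw [pow_one, ← h3.orderOf, pow_orderOf_eq_one]
  have hs : swap b c * swap d e ∈ P a := by
    have e1 : swap b c * swap d e = (swap c b * swap c d) * (swap d c * swap d e) := by
      rw [swap_comm b c, swap_comm d c, mul_assoc, ← mul_assoc (swap c d) (swap c d), swap_mul_self,
        one_mul]
    rw [e1]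
    exact (P a).mul_mem (key c b d hbc.symm hcd hbd hc' hb hd) (key d c e hcd.symm hde hce hd hc' he)
  obtain ⟨k, hk⟩ := h.exists_pow hs
  have h2 : (swap b c * swap d e) ^ 2 = 1 := by
    have hcomm : Commute (swap b c) (swap d e) := by
      refine (Perm.disjoint_iff_eq_or_eq.2 fun z => ?_).commute
      by_cases hz : z = b ∨ z = c
      · right
        rcases hz with rfl | rfl
        · exact swap_apply_of_ne_of_ne hbd hbe
        · exact swap_apply_of_ne_of_ne hcd hce
      · left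
        exact swap_apply_of_ne_of_ne (fun e => hz (Or.inl e)) (fun e => hz (Or.inr e))
    rw [hcomm.mul_pow, pow_two, pow_two, swap_mul_self, swap_mul_self, one_mul]
  have ho : orderOf (swap b c * swap d e) = 1 := Nat.eq_one_of_dvd_coprimes
    (Nat.Coprime.pow_right k (by norm_num) : Nat.Coprime 2 (3 ^ k))
    (orderOf_dvd_of_pow_eq_one h2) (orderOf_dvd_of_pow_eq_one hk)
  have := Equiv.congr_fun (orderOf_eq_one_iff.1 ho) b
  rw [Perm.mul_apply, swap_apply_of_ne_of_ne hbd hbe, swap_apply_left, Perm.one_apply] at this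
  exact hbc this.symm

/-- An element of `G` moves no or more than three points. -/
theorem Cfg.eq_one_of_support (h : Cfg G P) {x : Perm α} (hx : x ∈ G) (hs : x.support.card ≤ 3) :
    x = 1 := by
  interval_cases hn : x.support.card
  · exact card_support_eq_zero.1 hn
  · exact absurd hn (card_support_ne_one x)
  · exact absurd (h.even x hx) (by rw [(card_support_eq_two.1 hn).sign_eq]; decide)
  · exact absurd (card_support_eq_three_iff.1 hn) (h.not_threeCycle hx)

/-- Two elements whose moved points meet in one point outside a set where they commute. -/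
theorem Cfg.one_common (h : Cfg G P) {p q : Perm α} (hp : p ∈ G) (hq : q ∈ G) (Y : Finset α)
    (hY : ∀ z ∈ Y, p (q z) = q (p z)) (hYp : ∀ z ∈ Y, p z ∈ Y) (hYq : ∀ z ∈ Y, q z ∈ Y) {u : α}
    (hu : u ∉ Y) (hpu : p u ≠ u) (hqu : q u ≠ u)
    (hone : ∀ z ∉ Y, p z ≠ z → q z ≠ z → z = u) : False := by
  have hout : ∀ r : Perm α, (∀ z ∈ Y, r z ∈ Y) → ∀ z, z ∉ Y → r z ∉ Y := by
    intro r hr z hz hm
    have himg : Y.image r = Y := Finset.eq_of_subset_of_card_le (Finset.image_subset_iff.2 hr)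
      (by rw [Finset.card_image_of_injective _ r.injective])
    obtain ⟨y, hy, hyz⟩ := Finset.mem_image.1 (himg.symm ▸ hm : r z ∈ Y.image r)
    exact hz (r.injective hyz ▸ hy)
  have hN : ∀ z, p (q z) ≠ q (p z) → z ∈ ({u, p⁻¹ u, q⁻¹ u} : Finset α) := by
    intro z hz
    have hzY : z ∉ Y := fun hm => hz (hY z hm)
    simp only [Finset.mem_insert, Finset.mem_singleton]
    by_cases h1 : p z = z
    · by_cases h2 : q z = z
      · rw [h1, h2, h1] at hz; exact absurd rfl hz
      · rw [h1] at hz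
        right; right
        have h3 := hone (q z) (hout q hYq z hzY) hz (fun e => h2 (q.injective e))
        rw [← h3]; simp
    · by_cases h2 : q z = z
      · rw [h2] at hz
        right; left
        have h3 := hone (p z) (hout p hYp z hzY) (fun e => h1 (p.injective e)) (fun e => hz e.symm)
        rw [← h3]; simp
      · exact Or.inl (hone z hzY h1 h2)
  set e := p * q * p⁻¹ * q⁻¹ with he
  have hsub : e.support ⊆ ({u, p⁻¹ u, q⁻¹ u} : Finset α).image (q * p) := by
    intro w hw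
    refine Finset.mem_image.2 ⟨(q * p)⁻¹ w, hN _ ?_, by simp⟩
    intro hc
    apply mem_support.1 hw
    rw [he]
    simp only [mul_inv_rev, Perm.mul_apply] at hc ⊢
    rw [hc]; simp
  have hcard : e.support.card ≤ 3 :=
    (Finset.card_le_card hsub).trans (Finset.card_image_le.trans Finset.card_le_three)
  have he1 : e = 1 := h.eq_one_of_support
    (G.mul_mem (G.mul_mem (G.mul_mem hp hq) (G.inv_mem hp)) (G.inv_mem hq)) hcard
  have hcomm : p * q = q * p := by
    have : p * q = e * (q * p) := by rw [he]; group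
    rw [this, he1, one_mul]
  have hpq := Equiv.congr_fun hcomm u
  rw [Perm.mul_apply, Perm.mul_apply] at hpq
  have h1 : p (q u) = q u := by
    by_contra hc
    exact hqu (hone _ (hout q hYq u hu) hc (fun e => hqu (q.injective e)))
  have h2 : q (p u) = p u := by
    by_contra hc
    exact hpu (hone _ (hout p hYp u hu) (fun e => hpu (p.injective e)) hc)
  rw [h1, h2] at hpq
  -- the two images of `u` coincide, so both permutations move it
  exact hqu (p.injective (h1.trans hpq))

/-- An element commuting with the 3-subgroups of all its fixed points. -/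
theorem Cfg.fixS_transitive (h : Cfg G P) {g : Perm α}
    (hc : ∀ b, g b = b → ∀ x ∈ P b, g * x = x * g) {b b' : α} (hb : g b = b) (hb' : g b' = b') :
    ∃ c ∈ G, g * c = c * g ∧ c b = b' := by
  haveI : Fact (Nat.Prime 3) := ⟨Nat.prime_three⟩
  set C := G ⊓ centralizer ({g} : Set (Perm α)) with hC
  have hmemC : ∀ x, x ∈ G → g * x = x * g → x ∈ C := fun x hx hgx =>
    ⟨hx, mem_centralizer_iff.2 fun y hy => by rw [Set.mem_singleton_iff.1 hy]; exact hgx⟩
  have hPC : ∀ b, g b = b → P b ≤ C := fun b hb x hx => hmemC x (h.le b hx) (hc b hb x hx)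
  have hsyl : ∀ b, g b = b → ¬ 3 ∣ ((P b).subgroupOf C).index := fun b hb hd =>
    h.sylow b (hd.trans (Dvd.intro _ (relIndex_mul_relIndex (P b) C G (hPC b hb) inf_le_left)))
  let S₁ : Sylow 3 C := ((h.pgroup b).comap_subtype).toSylow (hsyl b hb)
  let S₂ : Sylow 3 C := ((h.pgroup b').comap_subtype).toSylow (hsyl b' hb')
  obtain ⟨c, hcS⟩ := MulAction.exists_smul_eq C S₁ S₂
  refine ⟨c, c.2.1, mem_centralizer_iff.1 c.2.2 g rfl, ?_⟩
  by_contra hne
  obtain ⟨y, hy, hyc⟩ := h.moves b' _ hne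
  have hmem : (⟨y, hPC b' hb' hy⟩ : C) ∈ (S₂ : Subgroup C) := hy
  rw [← hcS, Sylow.coe_subgroup_smul, Subgroup.mem_pointwise_smul_iff_inv_smul_mem] at hmem
  have h1 : (c : Perm α)⁻¹ * y * (c : Perm α) ∈ P b := by
    simpa [MulAut.smul_def, mul_assoc, S₁, mem_subgroupOf] using hmem
  have h2 := h.fix b _ h1
  simp only [Perm.mul_apply, Perm.inv_eq_iff_eq] at h2
  exact hyc h2

theorem Cfg.fixS_dvd (h : Cfg G P) {g : Perm α} {b : α} (hb : g b = b)
    (hc : ∀ b, g b = b → ∀ x ∈ P b, g * x = x * g) : (fixS g).ncard ∣ Nat.card G := by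
  set C := G ⊓ centralizer ({g} : Set (Perm α)) with hC
  have horb : MulAction.orbit C b = fixS g := by
    ext z
    constructor
    · rintro ⟨⟨c, hcG, hcc⟩, rfl⟩
      have h1 : g * c = c * g := mem_centralizer_iff.1 hcc g rfl
      show g (c b) = c b
      rw [← Perm.mul_apply, h1, Perm.mul_apply, hb]
    · intro hz
      obtain ⟨c, hcG, hcc, hcb⟩ := h.fixS_transitive hc hb hz
      exact ⟨⟨c, hcG, mem_centralizer_iff.2 fun y hy => by rw [Set.mem_singleton_iff.1 hy]; exact hcc⟩, hcb⟩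
  rw [← horb]
  exact (Dvd.intro _ (card_orbit_mul C b)).trans (card_dvd_of_le inf_le_left)

/-- The number of points moved by an involution of `G` is divisible by four. -/
theorem Cfg.involution_fix (h : Cfg G P) {g : Perm α} (hg : g ∈ G) (hgg : g * g = 1) :
    (fixS g).ncard % 4 = 2 := by
  have hadd := fixS_add_support g
  rw [h.card] at hadd
  by_cases h1 : g = 1
  · rw [h1, support_one, Finset.card_empty] at hadd
    rw [h1]; omega
  have ho : orderOf g = 2 := orderOf_eq_prime (by rw [pow_two]; exact hgg) h1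
  obtain ⟨n, hn⟩ := cycleType_prime_order (σ := g) (by rw [ho]; exact Nat.prime_two)
  rw [ho] at hn
  have hsum := sum_cycleType g
  have hs := sign_of_cycleType g
  rw [hn, Multiset.sum_replicate, smul_eq_mul] at hsum
  rw [hn, Multiset.sum_replicate, Multiset.card_replicate, h.even g hg, smul_eq_mul] at hs
  rcases Nat.even_or_odd (n + 1) with ⟨m, hm⟩ | ho'
  · omega
  · have hodd : Odd ((n + 1) * 2 + (n + 1)) := Even.add_odd (even_two.mul_left _) ho'
    rw [hodd.neg_one_pow] at hs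
    exact absurd hs (by decide)

section Three

theorem Cfg.three_fix (h : Cfg G P) {a q : α} (hB : (orb P a q).ncard = 3) {x : Perm α} (hx : x ∈ P a)
    (hxq : x q = q) {r : α} (hr : r ∈ orb P a q) : x r = r := by
  haveI : Fact (Nat.Prime 3) := ⟨Nat.prime_three⟩
  obtain ⟨g, hg, rfl⟩ := mem_orb.1 hr
  have hi : (MulAction.stabilizer (P a) q).index = 3 := by rw [index_stabilizer]; exact hB
  have hn : (MulAction.stabilizer (P a) q).Normal := by
    refine normal_of_index_eq_minFac_card ?_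
    obtain ⟨m, hm⟩ := IsPGroup.iff_card.mp (h.pgroup a)
    rcases m.eq_zero_or_pos with h0 | h0
    · have := (MulAction.stabilizer (P a) q).index_dvd_card
      rw [hm, h0, hi] at this
      norm_num at this
    · rw [hi, hm, Nat.pow_minFac h0.ne', Nat.prime_three.minFac_eq]
  have h1 := hn.conj_mem ⟨x, hx⟩ hxq ⟨g⁻¹, (P a).inv_mem hg⟩
  have h2 : (g⁻¹ * x * g⁻¹⁻¹ : Perm α) q = q := h1
  rw [inv_inv, Perm.mul_apply, Perm.mul_apply, Perm.inv_eq_iff_eq] at h2
  exact h2

theorem Cfg.three_cube (h : Cfg G P) {a q : α} (hB : (orb P a q).ncard = 3) {x : Perm α}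
    (hx : x ∈ P a) : (x ^ 3) q = q := by
  haveI : Fact (Nat.Prime 3) := ⟨Nat.prime_three⟩
  obtain ⟨k, hk⟩ := h.exists_pow hx
  by_cases h1 : x q = q
  · exact pow_apply_eq_self_of_apply_eq_self h1 3
  have hB' : (orb P a q).toFinite.toFinset.card = 3 := by rw [← Set.ncard_eq_toFinset_card _ _]; exact hB
  have hxq : x q ∈ orb P a q := mem_orb.2 ⟨x, hx, rfl⟩
  have h2q : x (x q) ∈ orb P a q := apply_mem_orb hx hxq
  have h3q : x (x (x q)) ∈ orb P a q := apply_mem_orb hx h2q
  have h2 : x (x q) ≠ q := by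
    intro e
    apply h1
    have h4 : (x ^ 2) q = q := by rw [pow_two, Perm.mul_apply]; exact e
    obtain ⟨j, hj⟩ : Odd (3 ^ k) := Odd.pow (by decide)
    have h5 := pow_apply_eq_self_of_apply_eq_self h4 j
    rw [← pow_mul] at h5
    have h6 : (x ^ 3 ^ k) q = x q := by rw [hj, pow_succ', Perm.mul_apply, h5]
    rw [hk] at h6
    exact h6.symm
  have hsub : ({q, x q, x (x q)} : Finset α) ⊆ (orb P a q).toFinite.toFinset := by
    simp [Set.insert_subset_iff, mem_orb_self, hxq, h2q]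
  have hthree : ({q, x q, x (x q)} : Finset α).card = 3 :=
    Finset.card_eq_three.2 ⟨q, x q, x (x q), fun e => h1 e.symm, fun e => h2 e.symm,
      fun e => h1 (x.injective e).symm, rfl⟩
  have heq := Finset.eq_of_subset_of_card_le hsub (by rw [hthree, hB'])
  have hm : x (x (x q)) ∈ ({q, x q, x (x q)} : Finset α) := heq.symm ▸ by simpa using h3q
  simp only [Finset.mem_insert, Finset.mem_singleton] at hm
  show x (x (x q)) = q
  rcases hm with e | e | e
  · exact e
  · exact absurd (x.injective e) h2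
  · exact absurd (x.injective (x.injective e)) h1

theorem Cfg.three_comm (h : Cfg G P) {a q : α} (hB : (orb P a q).ncard = 3) {x y : Perm α}
    (hx : x ∈ P a) (hy : y ∈ P a) : x (y q) = y (x q) := by
  have hfix : ∀ {z : Perm α}, z ∈ P a → z q = q → ∀ r ∈ orb P a q, z r = r :=
    fun hz hzq r hr => h.three_fix hB hz hzq hr
  by_cases h1 : x q = q
  · rw [hfix hx h1 (y q) (mem_orb.2 ⟨y, hy, rfl⟩), h1]
  by_cases h2 : y q = q
  · rw [hfix hy h2 (x q) (mem_orb.2 ⟨x, hx, rfl⟩), h2]
  by_cases h3 : x q = y q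
  · have h4 : ∀ r ∈ orb P a q, x r = y r := by
      intro r hr
      have hz := hfix (z := y⁻¹ * x) ((P a).mul_mem ((P a).inv_mem hy) hx) (by simp [h3]) r hr
      rw [Perm.mul_apply, Perm.inv_eq_iff_eq] at hz
      exact hz
    rw [← h3, h4 _ (mem_orb.2 ⟨x, hx, rfl⟩)]
  · -- the orbit is made of `q`, `x q`, `y q`
    have hB' : (orb P a q).toFinite.toFinset.card = 3 := by rw [← Set.ncard_eq_toFinset_card _ _]; exact hB
    have hxq : x q ∈ orb P a q := mem_orb.2 ⟨x, hx, rfl⟩
    have hyq : y q ∈ orb P a q := mem_orb.2 ⟨y, hy, rfl⟩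
    have hsub : ({q, x q, y q} : Finset α) ⊆ (orb P a q).toFinite.toFinset := by
      simp [Set.insert_subset_iff, mem_orb_self, hxq, hyq]
    have hthree : ({q, x q, y q} : Finset α).card = 3 :=
      Finset.card_eq_three.2 ⟨q, x q, y q, fun e => h1 e.symm, fun e => h2 e.symm, h3, rfl⟩
    have heq := Finset.eq_of_subset_of_card_le hsub (by rw [hthree, hB'])
    have hall : ∀ r ∈ orb P a q, r = q ∨ r = x q ∨ r = y q := by
      intro r hr
      have : r ∈ ({q, x q, y q} : Finset α) := heq.symm ▸ by simpa using hr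
      simpa using this
    rcases hall _ (apply_mem_orb hx hyq) with e | e | e
    · rcases hall _ (apply_mem_orb hy hxq) with e' | e' | e'
      · rw [e, e']
      · exact absurd (hfix hy (by
          have hz : ∃ g ∈ P a, g q = x q := ⟨x, hx, rfl⟩
          exact (h.three_fix (q := x q) (by rw [orb_eq hxq]; exact hB) hy e'
            (by rw [orb_eq hxq]; exact mem_orb_self P a q))) q (mem_orb_self P a q)) h2
      · exact absurd (y.injective e') h1
    · exact absurd (x.injective e) h2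
    · exact absurd (h.three_fix (q := y q) (by rw [orb_eq hyq]; exact hB) hx e
        (by rw [orb_eq hyq]; exact mem_orb_self P a q)) h1

/-- An invariant orbit of length three forces Sylow subgroups of order three. -/
theorem Cfg.card_P_eq_three (h : Cfg G P) {a q : α} (hq : q ≠ a) (hB : (orb P a q).ncard = 3)
    (hinv : ∀ g ∈ stab G a, g q ∈ orb P a q) : Nat.card (P a) = 3 := by
  haveI : Fact (Nat.Prime 3) := ⟨Nat.prime_three⟩
  set Q := stab (P a) q with hQdef
  have hcard : 3 * Nat.card Q = Nat.card (P a) := by rw [← card_orbit_mul (P a) q]; exact congrArg (· * _) hB.symm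
  have hQq : Q ≤ P q := fun x hx => h.mem_P_of_fix hx.1 hx.2
  have hn : (Q.subgroupOf (P q)).Normal := by
    refine normal_of_index_eq_minFac_card ?_
    have h1 := relIndex_mul_relIndex (⊥ : Subgroup (Perm α)) Q (P q) bot_le hQq
    rw [relIndex_bot_left, relIndex_bot_left, ← h.card_P a q, ← hcard, mul_comm] at h1
    have h2 : (Q.subgroupOf (P q)).index = 3 := Nat.eq_of_mul_eq_mul_right Nat.card_pos h1
    obtain ⟨m, hm⟩ := IsPGroup.iff_card.mp (h.pgroup q)
    rw [h2, hm, Nat.pow_minFac, Nat.prime_three.minFac_eq]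
    intro h0
    rw [← h.card_P a q, ← hcard, h0] at hm
    omega
  have hbot : Q = ⊥ := by
    refine h.core_of_normalised hq inf_le_left (fun g hg x hx => ⟨h.conj_mem_self hg.1 hg.2 hx.1, ?_⟩)
      (fun g hg x hx => hn.conj_mem ⟨x, hQq hx⟩ hx ⟨g, hg⟩)
    show (g * x * g⁻¹) q = q
    have h1 : g⁻¹ q ∈ orb P a q := hinv g⁻¹ ((stab G a).inv_mem hg)
    rw [Perm.mul_apply, Perm.mul_apply, h.three_fix hB hx.1 hx.2 h1]
    simp
  rw [hbot, card_bot] at hcard
  omega

end Three

end Cfsg.Lib.SolvStruct.TwentyTwo
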