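/-
No finite group has exactly 22 Sylow 3-subgroups: the Sylow 11-subgroups.
-/
import Cfsg.Agent.SolvStruct.TwentyTwo.Defs
import Cfsg.Agent.PermGen.AltPair

set_option linter.style.haveILetI false
set_option linter.unusedSectionVars false
set_option autoImplicit false

namespace Cfsg.Lib.SolvStruct.TwentyTwo

open Equiv Equiv.Perm MulAction Subgroup
open scoped Pointwise

universe u

variable {α : Type u} [Fintype α] [DecidableEq α] {G : Subgroup (Perm α)} {P : α → Subgroup (Perm α)}

/-- A permutation of eleventh power one fixes no point, unless trivial. -/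
theorem Cfg.eleven_free (h : Cfg G P) {y : Perm α} (hy : y ∈ G) (h11 : y ^ 11 = 1) {z : α}
    (hz : y z = z) : y = 1 := by
  by_contra hne
  haveI : Fact (Nat.Prime 11) := ⟨by norm_num⟩
  have ho : orderOf y = 11 := orderOf_eq_prime h11 hne
  obtain ⟨n, hn⟩ := cycleType_prime_order (σ := y) (by rw [ho]; norm_num)
  rw [ho] at hn
  have hsum := sum_cycleType y
  rw [hn, Multiset.sum_replicate, smul_eq_mul] at hsum
  have hlt : y.support.card < 22 := by
    rw [← h.card, ← Finset.card_univ]
    exact Finset.card_lt_card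
      (Finset.ssubset_univ_iff.2 fun e => mem_support.1 (e ▸ Finset.mem_univ z) hz)
  have hn0 : n = 0 := by omega
  subst hn0
  have hcyc : y.IsCycle := by
    rw [← card_cycleType_eq_one, hn]; simp
  have hA : alternatingGroup α ≤ G := Cfsg.Lib.PermGen.alternatingGroup_le_of_prime_cycle h.preprimitive
    hcyc hy (by rw [← hsum]; norm_num) (Or.inr (by rw [← hsum, h.card]; norm_num))
  obtain ⟨a, b, c, hab, hac, hbc⟩ := Fintype.two_lt_card_iff.1 (by rw [h.card]; norm_num : 2 < Fintype.card α)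
  have h3 := isThreeCycle_swap_mul_swap_same hab hac hbc
  exact h.not_threeCycle (hA h3.mem_alternatingGroup) h3

/-- The cycle of `z` under a permutation of order eleven. -/
def cyc (c : Perm α) (z : α) : Finset α := (Finset.range 11).image fun i => (c ^ i) z

theorem mem_cyc {c : Perm α} {z r : α} (hc : c ^ 11 = 1) :
    r ∈ cyc c z ↔ ∃ u ∈ zpowers c, u z = r := by
  constructor
  · intro hr
    obtain ⟨i, -, rfl⟩ := Finset.mem_image.1 hr
    exact ⟨c ^ i, npow_mem_zpowers c i, rfl⟩
  · rintro ⟨u, hu, rfl⟩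
    obtain ⟨i, rfl⟩ := (mem_powers_iff_mem_zpowers.2 hu : u ∈ Submonoid.powers c)
    refine Finset.mem_image.2 ⟨i % 11, Finset.mem_range.2 (Nat.mod_lt _ (by norm_num)), ?_⟩
    rw [← pow_eq_pow_mod i hc]

section
variable (h : Cfg G P) {c : Perm α} (hc : c ∈ G) (hc11 : c ^ 11 = 1) (hc1 : c ≠ 1)
include h hc hc11

theorem cyc_free {u : Perm α} (hu : u ∈ zpowers c) {z : α} (hz : u z = z) : u = 1 := by
  refine h.eleven_free (zpowers_le.2 hc hu) ?_ hz
  obtain ⟨i, rfl⟩ := hu
  show (c ^ i) ^ 11 = 1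
  rw [← zpow_natCast, zpow_comm, zpow_natCast, hc11, one_zpow]

include hc1

theorem cyc_card (z : α) : (cyc c z).card = 11 := by
  haveI : Fact (Nat.Prime 11) := ⟨by norm_num⟩
  have ho : orderOf c = 11 := orderOf_eq_prime hc11 hc1
  refine (Finset.card_image_of_injOn fun i hi j hj e => ?_).trans (Finset.card_range 11)
  simp only [Finset.coe_range, Set.mem_Iio] at hi hj
  have h1 : ((c ^ j)⁻¹ * c ^ i) z = z := by
    have e' : (c ^ i) z = (c ^ j) z := e
    rw [Perm.mul_apply, e']; simp
  have h2 := cyc_free h hc hc11 ((zpowers c).mul_mem ((zpowers c).inv_mem (npow_mem_zpowers c j))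
    (npow_mem_zpowers c i)) h1
  exact pow_injOn_Iio_orderOf (by rw [ho]; exact hi) (by rw [ho]; exact hj) (inv_mul_eq_one.1 h2).symm

/-- There are only two cycles. -/
theorem cyc_two {p q r : α} (hq : q ∉ cyc c p) (hr : r ∉ cyc c p) : r ∈ cyc c q := by
  have hd : Disjoint (cyc c p) (cyc c q) := by
    rw [Finset.disjoint_left]
    intro z hzp hzq
    apply hq
    obtain ⟨u, hu, rfl⟩ := (mem_cyc hc11).1 hzp
    obtain ⟨v, hv, hvu⟩ := (mem_cyc hc11).1 hzq
    exact (mem_cyc hc11).2 ⟨v⁻¹ * u, (zpowers c).mul_mem ((zpowers c).inv_mem hv) hu,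
      by rw [Perm.mul_apply, ← hvu]; simp⟩
  have hu : cyc c p ∪ cyc c q = Finset.univ := Finset.eq_univ_of_card _ (by
    rw [Finset.card_union_of_disjoint hd, cyc_card h hc hc11 hc1, cyc_card h hc hc11 hc1, h.card])
  rcases Finset.mem_union.1 (hu.symm ▸ Finset.mem_univ r : r ∈ cyc c p ∪ cyc c q) with h1 | h1
  · exact absurd h1 hr
  · exact h1

theorem centralizer_eq {x : Perm α} (hx : x ∈ G) (hxc : x * c = c * x) : x ∈ zpowers c := by
  obtain ⟨p⟩ : Nonempty α := Fintype.card_pos_iff.1 (by rw [h.card]; omega)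
  have hcomm : ∀ y : Perm α, y * c = c * y → ∀ u ∈ zpowers c, ∀ z, y (u z) = u (y z) := by
    intro y hy u hu z
    obtain ⟨i, rfl⟩ := hu
    exact Equiv.congr_fun ((show Commute y c from hy).zpow_right i).eq z
  have key : ∀ y : Perm α, y ∈ G → y * c = c * y → y p ∈ cyc c p → y ∈ zpowers c := by
    intro y hy hyc hyp
    obtain ⟨u, hu, hup⟩ := (mem_cyc hc11).1 hyp
    obtain ⟨w, hw⟩ : ∃ w, w = u⁻¹ * y := ⟨_, rfl⟩
    have hwG : w ∈ G := hw ▸ G.mul_mem (G.inv_mem (zpowers_le.2 hc hu)) hy
    have hwc : w * c = c * w := by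
      obtain ⟨i, rfl⟩ := hu
      rw [hw]
      exact (((Commute.refl c).zpow_right i).inv_right.symm.mul_left (show Commute y c from hyc)).eq
    have hwp : w p = p := by rw [hw, Perm.mul_apply, ← hup]; simp
    have hwcyc : ∀ z ∈ cyc c p, w z = z := by
      intro z hz
      obtain ⟨v, hv, rfl⟩ := (mem_cyc hc11).1 hz
      rw [hcomm w hwc v hv, hwp]
    obtain ⟨q, hq⟩ : ∃ q, q ∉ cyc c p := by
      by_contra hall
      push Not at hall
      have := Finset.eq_univ_iff_forall.2 hall
      have h2 := cyc_card h hc hc11 hc1 p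
      rw [this, Finset.card_univ, h.card] at h2
      omega
    have hwq : w q ∉ cyc c p := fun hm => hq (w.injective (hwcyc _ hm) ▸ hm)
    obtain ⟨v, hv, hvq⟩ := (mem_cyc hc11).1 (cyc_two h hc hc11 hc1 hq hwq)
    have hw11 : w ^ 11 = 1 := by
      ext z
      rw [Perm.one_apply]
      by_cases hz : z ∈ cyc c p
      · exact pow_apply_eq_self_of_apply_eq_self (hwcyc z hz) 11
      · obtain ⟨t, ht, rfl⟩ := (mem_cyc hc11).1 (cyc_two h hc hc11 hc1 hq hz)
        have e : ∀ n : ℕ, (w ^ n) (t q) = (v ^ n) (t q) := by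
          intro n
          induction n with
          | zero => simp
          | succ n ih =>
            rw [pow_succ', Perm.mul_apply, ih, pow_succ', Perm.mul_apply]
            obtain ⟨s, hs, e⟩ : ∃ s ∈ zpowers c, (v ^ n) (t q) = s q :=
              ⟨v ^ n * t, (zpowers c).mul_mem ((zpowers c).pow_mem hv n) ht, rfl⟩
            rw [e, show w (s q) = s (w q) from hcomm w hwc s hs q, ← hvq]
            obtain ⟨i, rfl⟩ := hs
            obtain ⟨j, rfl⟩ := hv
            exact Equiv.congr_fun (((Commute.refl c).zpow_left i).zpow_right j).eq q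
        have hv11 : v ^ 11 = 1 := by
          obtain ⟨i, rfl⟩ := hv
          show (c ^ i) ^ 11 = 1
          rw [← zpow_natCast, zpow_comm, zpow_natCast, hc11, one_zpow]
        rw [e, hv11, Perm.one_apply]
    have hw1 : w = 1 := h.eleven_free hwG hw11 hwp
    rw [hw, inv_mul_eq_one] at hw1
    exact hw1 ▸ hu
  by_cases hxp : x p ∈ cyc c p
  · exact key x hx hxc hxp
  exfalso
  have hxx : x * x ∈ zpowers c := by
    refine key _ (G.mul_mem hx hx) ((show Commute x c from hxc).mul_left hxc).eq ?_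
    rw [Perm.mul_apply]
    by_contra hn
    obtain ⟨u, hu, hup⟩ := (mem_cyc hc11).1 (cyc_two h hc hc11 hc1 hxp hn)
    rw [← hcomm x hxc u hu] at hup
    exact hxp ((mem_cyc hc11).2 ⟨u, hu, x.injective hup⟩)
  set y := x * (x * x) ^ 5 with hy
  have hyG : y ∈ G := G.mul_mem hx (G.pow_mem (G.mul_mem hx hx) 5)
  have hyy : y * y = 1 := by
    have h11 : ((x * x) ^ 11 : Perm α) = 1 := by
      obtain ⟨i, hi⟩ := hxx
      have hi' : c ^ i = x * x := hi
      rw [← hi', ← zpow_natCast, zpow_comm, zpow_natCast, hc11, one_zpow]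
    calc y * y = (x * x) ^ 11 := by rw [hy]; simp only [pow_succ, pow_zero, one_mul, mul_assoc]
      _ = 1 := h11
  have hfree : ∀ z, y z ≠ z := by
    intro z hz
    have h5 : ((x * x) ^ 5) ∈ zpowers c := (zpowers c).pow_mem hxx 5
    rw [hy, Perm.mul_apply] at hz
    set s := (x * x) ^ 5
    by_cases hzp : z ∈ cyc c p
    · obtain ⟨u, hu, rfl⟩ := (mem_cyc hc11).1 hzp
      apply hxp
      rw [← Perm.mul_apply s u, hcomm x hxc _ ((zpowers c).mul_mem h5 hu)] at hz
      exact (mem_cyc hc11).2 ⟨(s * u)⁻¹ * u, (zpowers c).mul_mem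
        ((zpowers c).inv_mem ((zpowers c).mul_mem h5 hu)) hu, by rw [Perm.mul_apply, ← hz]; simp⟩
    · obtain ⟨u, hu, rfl⟩ := (mem_cyc hc11).1 (cyc_two h hc hc11 hc1 hxp hzp)
      apply hxp
      rw [← Perm.mul_apply s u, hcomm x hxc _ ((zpowers c).mul_mem h5 hu)] at hz
      have h1 : (x * x) p ∈ cyc c p := (mem_cyc hc11).2 ⟨_, hxx, rfl⟩
      refine (mem_cyc hc11).2 ⟨u⁻¹ * (s * u) * (x * x), (zpowers c).mul_mem ((zpowers c).mul_mem
        ((zpowers c).inv_mem hu) ((zpowers c).mul_mem h5 hu)) hxx, ?_⟩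
      simp only [Perm.mul_apply] at hz ⊢
      rw [hz]; simp
  have := h.involution_fix hyG hyy
  have h0 : fixS y = ∅ := Set.eq_empty_iff_forall_notMem.2 fun z hz => hfree z hz
  rw [h0, Set.ncard_empty] at this
  omega

/-- An element normalising but not centralising the cycle group fixes at most two points. -/
theorem fixS_normalizing {d : Perm α} (hd : d ∈ G) (hdn : d * c * d⁻¹ ∈ zpowers c)
    (hdc : d * c ≠ c * d) : (fixS d).ncard ≤ 2 := by
  have hone : ∀ z w, d z = z → d w = w → w ∈ cyc c z → w = z := by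
    intro z w hz hw hm
    obtain ⟨u, hu, rfl⟩ := (mem_cyc hc11).1 hm
    by_contra hne
    have hdu : d * u * d⁻¹ ∈ zpowers c := by
      obtain ⟨i, rfl⟩ := hu
      show d * c ^ i * d⁻¹ ∈ zpowers c
      rw [← MulAut.conj_apply, map_zpow, MulAut.conj_apply]
      exact (zpowers c).zpow_mem hdn i
    have h2 : (u⁻¹ * (d * u * d⁻¹)) z = z := by
      simp only [Perm.mul_apply]
      rw [Perm.inv_eq_iff_eq.2 hz.symm, hw]; simp
    have h3 : d * u * d⁻¹ = u := (inv_mul_eq_one.1
      (cyc_free h hc hc11 ((zpowers c).mul_mem ((zpowers c).inv_mem hu) hdu) h2)).symm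
    have hu1 : u ≠ 1 := fun e => hne (by rw [e, Perm.one_apply])
    haveI : Fact (Nat.Prime 11) := ⟨by norm_num⟩
    have ho : orderOf c = 11 := orderOf_eq_prime hc11 hc1
    have hcu : c ∈ zpowers u := by
      have heq : zpowers u = zpowers c := Subgroup.eq_of_le_of_card_ge (zpowers_le.2 hu) (by
        rw [Nat.card_zpowers, Nat.card_zpowers, ho]
        have hdvd : orderOf u ∣ 11 := ho ▸ orderOf_dvd_of_mem_zpowers hu
        rcases (Nat.dvd_prime (by norm_num)).1 hdvd with e | e
        · exact absurd (orderOf_eq_one_iff.1 e) hu1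
        · exact e.ge)
      exact heq ▸ mem_zpowers c
    obtain ⟨i, rfl⟩ := hcu
    apply hdc
    have h4 : Commute d u := by
      show d * u = u * d
      calc d * u = (d * u * d⁻¹) * d := by group
        _ = u * d := by rw [h3]
    exact (h4.zpow_right i).eq
  by_contra hlt
  obtain ⟨x, hx, y, hy, z, hz, hxy, hxz, hyz⟩ := (Set.two_lt_ncard (Set.toFinite _)).1 (not_le.1 hlt)
  by_cases hyx : y ∈ cyc c x
  · exact hxy (hone x y hx hy hyx).symm
  by_cases hzx : z ∈ cyc c x
  · exact hxz (hone x z hx hz hzx).symm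
  exact hyz (hone y z hy hz (cyc_two h hc hc11 hc1 hyx hzx)).symm

end

/-- Existence of an involution fixing exactly two points, and the order of a point stabiliser. -/
theorem Cfg.exists_involution (h : Cfg G P) :
    (∃ a o : α, ∃ w ∈ G, o ≠ a ∧ w * w = 1 ∧ fixS w = {a, o}) ∧
      ∀ a : α, Nat.card (stab G a) % 11 = 1 := by
  classical
  haveI h11 : Fact (Nat.Prime 11) := ⟨by norm_num⟩
  haveI : Fact (Nat.Prime 3) := ⟨Nat.prime_three⟩
  obtain ⟨a⟩ : Nonempty α := Fintype.card_pos_iff.1 (by rw [h.card]; omega)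
  have hGc := h.card_G a
  obtain ⟨c', hc'⟩ := exists_prime_orderOf_dvd_card' (G := G) 11 (hGc ▸ Dvd.dvd.mul_right (by norm_num) _)
  set c : Perm α := (c' : Perm α) with hcdef
  have hcG : c ∈ G := c'.2
  have ho : orderOf c = 11 := by rw [hcdef, Subgroup.orderOf_coe, hc']
  have hc11 : c ^ 11 = 1 := ho ▸ pow_orderOf_eq_one c
  have hc1 : c ≠ 1 := fun e => by rw [e, orderOf_one] at ho; omega
  have hcent : ∀ x : G, x * c' = c' * x → x ∈ zpowers c' := by
    intro x hx
    obtain ⟨i, hi⟩ := centralizer_eq h hcG hc11 hc1 x.2 (congrArg Subtype.val hx)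
    exact ⟨i, Subtype.ext (by rw [Subgroup.coe_zpow]; exact hi)⟩
  obtain ⟨S, hS⟩ := (IsPGroup.of_card (n := 1) (by rw [Nat.card_zpowers, hc', pow_one]) :
    IsPGroup 11 (zpowers c')).exists_le_sylow
  have hSeq : (S : Subgroup G) = zpowers c' := by
    refine le_antisymm ?_ hS
    haveI : Nontrivial (S : Subgroup G) := ⟨⟨⟨c', hS (mem_zpowers c')⟩, 1, fun e => hc1
      (congrArg (fun z : (S : Subgroup G) => ((z : G) : Perm α)) e)⟩⟩
    haveI := S.2.center_nontrivial
    obtain ⟨z, hz⟩ := exists_ne (1 : Subgroup.center (S : Subgroup G))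
    have hzc : ((z : (S : Subgroup G)) : G) ∈ zpowers c' := hcent _ (by
      exact congrArg Subtype.val (Subgroup.mem_center_iff.1 z.2 ⟨c', hS (mem_zpowers c')⟩).symm)
    have hgen : c' ∈ zpowers ((z : (S : Subgroup G)) : G) := by
      have heq : zpowers ((z : (S : Subgroup G)) : G) = zpowers c' := by
        refine Subgroup.eq_of_le_of_card_ge (zpowers_le.2 hzc) ?_
        rw [Nat.card_zpowers, Nat.card_zpowers, hc']
        rcases (Nat.dvd_prime h11.out).1 (hc' ▸ orderOf_dvd_of_mem_zpowers hzc) with e | e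
        · exact absurd (Subtype.ext (Subtype.ext (orderOf_eq_one_iff.1 e))) hz
        · exact e.ge
      exact heq ▸ mem_zpowers c'
    intro s hs
    refine hcent s ?_
    obtain ⟨i, hi⟩ := hgen
    have hsz : Commute s ((z : (S : Subgroup G)) : G) :=
      congrArg Subtype.val (Subgroup.mem_center_iff.1 z.2 ⟨s, hs⟩)
    have := (hsz.zpow_right i).eq
    simp only at hi
    rwa [hi] at this
  have hScard : Nat.card (S : Subgroup G) = 11 := by rw [hSeq, Nat.card_zpowers, hc']
  have hSidx : 11 * (S : Subgroup G).index = Nat.card G := by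
    calc 11 * (S : Subgroup G).index = Nat.card (S : Subgroup G) * (S : Subgroup G).index := by rw [hScard]
      _ = Nat.card G := (S : Subgroup G).card_mul_index
  set N := normalizer (S : Set G) with hN
  have hSN : (S : Subgroup G) ≤ N := le_normalizer
  have hnorm : ∀ g : G, g ∈ N → (g : Perm α) * c * (g : Perm α)⁻¹ ∈ zpowers c := by
    intro g hg
    have h1 : g * c' * g⁻¹ ∈ (S : Subgroup G) := (mem_normalizer_iff.1 hg c').1 (hS (mem_zpowers c'))
    rw [hSeq] at h1
    obtain ⟨i, hi⟩ := h1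
    exact ⟨i, by simpa [hcdef] using congrArg Subtype.val hi⟩
  -- no element of order five normalises `c`
  have hfive : ¬ 5 ∣ Nat.card N := by
    intro h5
    haveI : Fact (Nat.Prime 5) := ⟨by norm_num⟩
    obtain ⟨d', hd'⟩ := exists_prime_orderOf_dvd_card' (G := N) 5 h5
    set d : Perm α := ((d' : G) : Perm α) with hddef
    have hdo : orderOf d = 5 := by rw [hddef, Subgroup.orderOf_coe, Subgroup.orderOf_coe, hd']
    have hdc : d * c ≠ c * d := by
      intro e
      have h1 := centralizer_eq h hcG hc11 hc1 (d' : G).2 e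
      have h2 := orderOf_dvd_of_mem_zpowers h1
      rw [hdo, ho] at h2
      norm_num at h2
    have hle := fixS_normalizing h hcG hc11 hc1 (d' : G).2 (hnorm _ d'.2) hdc
    have hd5 : d ^ 5 ^ 1 = 1 := by rw [pow_one, ← hdo, pow_orderOf_eq_one]
    have hmod := card_compl_support_modEq hd5
    rw [← fixS_ncard, h.card] at hmod
    have hle' : (fixS d).ncard ≤ 2 := hle
    have h2 : (fixS d).ncard = 2 := by unfold Nat.ModEq at hmod; omega
    obtain ⟨x, y, hxy, hfx⟩ := Set.ncard_eq_two.1 h2
    have hdx : d x = x := show x ∈ fixS d by rw [hfx]; exact Or.inl rfl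
    have hdy : d y = y := show y ∈ fixS d by rw [hfx]; exact Or.inr rfl
    set O := (orb P x y).toFinite.toFinset with hO
    have hOinv : ∀ z ∈ O, d z ∈ O := by
      intro z hz
      rw [hO, Set.Finite.mem_toFinset] at hz ⊢
      have h1 : d z ∈ d '' orb P x y := ⟨z, hz, rfl⟩
      rwa [h.orb_image (d' : G).2, hdx, hdy] at h1
    have hm := card_fixed_modEq hd5 O hOinv
    have hsub : O.filter (fun z => d z = z) = {y} := by
      ext z
      rw [Finset.mem_filter, Finset.mem_singleton, hO, Set.Finite.mem_toFinset]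
      constructor
      · rintro ⟨hz, hdz⟩
        have h1 : z ∈ fixS d := hdz
        rw [hfx] at h1
        rcases h1 with e | e
        · exact absurd e (h.ne_of_mem_orb hxy.symm hz)
        · exact e
      · rintro rfl
        exact ⟨mem_orb_self P x _, hdy⟩
    rw [hsub, Finset.card_singleton, hO, ← Set.ncard_eq_toFinset_card _ _] at hm
    unfold Nat.ModEq at hm
    rcases h.orb_card hxy.symm with e | e <;> omega
  -- `N` is not `zpowers c'`
  have hne : ¬ N ≤ (S : Subgroup G) := by
    intro hle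
    haveI : IsCyclic (S : Subgroup G) := isCyclic_of_prime_card hScard
    obtain ⟨L, hL, hmul, -⟩ := Cfsg.Lib.PermGen.burnside_complement S (hle.trans (fun s hs =>
      mem_centralizer_iff.2 fun t ht => congrArg Subtype.val
        ((IsCyclic.isMulCommutative (α := (S : Subgroup G))).is_comm.comm ⟨t, ht⟩ ⟨s, hs⟩)))
    rw [hScard] at hmul
    have hidx : L.index = 11 :=
      Nat.eq_of_mul_eq_mul_left (Nat.card_pos (α := L))
        (by rw [L.card_mul_index, ← hmul])
    haveI := hL
    set K := L.map G.subtype with hK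
    have hP3 : ∀ b, ∀ x ∈ P b, x ∈ K := by
      intro b x hx
      obtain ⟨k, hk⟩ := h.exists_pow hx
      refine ⟨⟨x, h.le b hx⟩, ?_, rfl⟩
      have h1 : (⟨x, h.le b hx⟩ : G) ^ 11 ∈ L := hidx ▸ L.pow_index_mem _
      have hk' : (⟨x, h.le b hx⟩ : G) ^ 3 ^ k = 1 := Subtype.ext hk
      have hcop : Nat.Coprime 11 (3 ^ k) := Nat.Coprime.pow_right _ (by norm_num)
      have := Int.gcd_eq_gcd_ab (11 : ℤ) ((3 ^ k : ℕ) : ℤ)
      rw [show Int.gcd (11 : ℤ) ((3 ^ k : ℕ) : ℤ) = 1 from hcop, Nat.cast_one] at this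
      have e : (⟨x, h.le b hx⟩ : G) = (⟨x, h.le b hx⟩ : G) ^ ((11 : ℤ) * Int.gcdA 11 ((3 ^ k : ℕ) : ℤ) +
          ((3 ^ k : ℕ) : ℤ) * Int.gcdB 11 ((3 ^ k : ℕ) : ℤ)) := by rw [← this, zpow_one]
      rw [e, zpow_add, zpow_mul, zpow_mul, zpow_natCast _ (3 ^ k), hk', one_zpow, mul_one]
      exact L.zpow_mem (by exact_mod_cast h1) _
    have hKn : ∀ g ∈ G, ∀ k ∈ K, g * k * g⁻¹ ∈ K := by
      rintro g hg _ ⟨l, hl, rfl⟩
      exact ⟨⟨g, hg⟩ * l * ⟨g, hg⟩⁻¹, hL.conj_mem l hl _, rfl⟩
    set Δ := MulAction.orbit K a with hΔ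
    set H := G ⊓ MulAction.stabilizer (Perm α) Δ with hH
    have hKG : K ≤ G := map_subtype_le L
    have hmemH : ∀ g ∈ G, g a ∈ Δ → g ∈ H := by
      intro g hg hga
      refine ⟨hg, ?_⟩
      show g • Δ = Δ
      apply Set.eq_of_subset_of_ncard_le
      · rintro _ ⟨_, ⟨⟨k, hk⟩, rfl⟩, rfl⟩
        obtain ⟨⟨l, hl⟩, hla⟩ := hga
        refine ⟨⟨g * k * g⁻¹ * l, K.mul_mem (hKn g hg k hk) hl⟩, ?_⟩
        show (g * k * g⁻¹ * l) a = g (k a)
        have hla' : l a = g a := hla
        simp [hla']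
      · rw [← Nat.card_coe_set_eq, ← Nat.card_coe_set_eq, Set.natCard_smul_set]
      · exact Set.toFinite _
    obtain ⟨b, hb⟩ := h.stab_ne a
    obtain ⟨g, hg, hga⟩ := h.moves b a hb.symm
    have ht := h.transitive_of (H := H) inf_le_left
      (fun g hg => hmemH g hg.1 (by rw [(mem_stab.1 hg).2]; exact MulAction.mem_orbit_self a))
      ⟨g, hmemH g (h.le b hg) ⟨⟨g, hP3 b g hg⟩, rfl⟩, hga⟩
    have huniv : Δ = Set.univ := Set.eq_univ_of_forall fun z => by
      obtain ⟨g, hg, rfl⟩ := ht z
      rw [← (hg.2 : g • Δ = Δ)]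
      exact Set.smul_mem_smul_set (MulAction.mem_orbit_self a)
    have h22 : 22 ∣ Nat.card K := by
      have h1 := card_orbit_mul K a
      rw [← hΔ, huniv, Set.ncard_univ, Nat.card_eq_fintype_card, h.card] at h1
      exact Dvd.intro _ h1
    rw [hK, card_map_of_injective G.subtype_injective] at h22
    refine S.not_dvd_index ?_
    have h3 : (S : Subgroup G).index = Nat.card L :=
      Nat.eq_of_mul_eq_mul_left (by norm_num : 0 < 11)
        (by rw [hSidx, ← hmul, mul_comm])
    rw [h3]
    exact (dvd_trans (by norm_num) h22)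
  -- the normaliser has order 22
  haveI : ((S : Subgroup G).subgroupOf N).Normal := by
    rw [hN]; exact Subgroup.normal_in_normalizer
  have hNmul : (S : Subgroup G).relIndex N * 11 = Nat.card N := by
    have h1 := relIndex_mul_relIndex (⊥ : Subgroup G) (S : Subgroup G) N bot_le hSN
    rw [relIndex_bot_left, relIndex_bot_left, hScard] at h1
    rw [mul_comm]; exact h1
  have hedvd : (S : Subgroup G).relIndex N ∣ 10 := by
    haveI : IsCyclic (S : Subgroup G) := isCyclic_of_prime_card hScard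
    set f : N →* MulAut (S : Subgroup G) := (S : Subgroup G).normalizerMonoidHom with hf
    have hker : f.ker = (S : Subgroup G).subgroupOf N := by
      ext g
      rw [hf, normalizerMonoidHom_ker, mem_subgroupOf, mem_subgroupOf]
      constructor
      · intro hg
        rw [hSeq]
        exact hcent _ (mem_centralizer_iff.1 hg c' (hS (mem_zpowers c'))).symm
      · intro hg
        exact mem_centralizer_iff.2 fun t ht => congrArg Subtype.val
          ((IsCyclic.isMulCommutative (α := (S : Subgroup G))).is_comm.comm ⟨t, ht⟩ ⟨(g : G), hg⟩)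
    rw [relIndex, ← hker, index_ker]
    have := card_subgroup_dvd_card f.range
    rwa [IsCyclic.card_mulAut, hScard, Nat.totient_prime h11.out] at this
  have he2 : (S : Subgroup G).relIndex N = 2 := by
    have hdiv : Nat.divisors 10 = {1, 2, 5, 10} := by decide
    have hm : (S : Subgroup G).relIndex N ∈ Nat.divisors 10 := Nat.mem_divisors.2 ⟨hedvd, by norm_num⟩
    rw [hdiv] at hm
    simp only [Finset.mem_insert, Finset.mem_singleton] at hm
    rcases hm with e | e | e | e
    · exact absurd (relIndex_eq_one.1 e) hne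
    · exact e
    all_goals exact absurd (by rw [← hNmul, e]; norm_num) hfive
  have hN22 : Nat.card N = 22 := by rw [← hNmul, he2]
  constructor
  · haveI : Fact (Nat.Prime 2) := ⟨Nat.prime_two⟩
    obtain ⟨w', hw'⟩ := exists_prime_orderOf_dvd_card' (G := N) 2 (by rw [hN22]; norm_num)
    set w : Perm α := ((w' : G) : Perm α) with hwdef
    have hwo : orderOf w = 2 := by rw [hwdef, Subgroup.orderOf_coe, Subgroup.orderOf_coe, hw']
    have hwc : w * c ≠ c * w := by
      intro e
      have h1 := centralizer_eq h hcG hc11 hc1 (w' : G).2 e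
      have h2 := orderOf_dvd_of_mem_zpowers h1
      rw [hwo, ho] at h2
      norm_num at h2
    have hww : w * w = 1 := by rw [← pow_two, ← hwo, pow_orderOf_eq_one]
    have hle := fixS_normalizing h hcG hc11 hc1 (w' : G).2 (hnorm _ w'.2) hwc
    have h4 : (fixS w).ncard % 4 = 2 := h.involution_fix (w' : G).2 hww
    have hle' : (fixS w).ncard ≤ 2 := hle
    obtain ⟨x, y, hxy, hfx⟩ := Set.ncard_eq_two.1 (show (fixS w).ncard = 2 by omega)
    exact ⟨x, y, w, (w' : G).2, hxy.symm, hww, hfx⟩
  · intro b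
    have h1 : Nat.card (Sylow 11 G) = Nat.card (stab G b) := by
      rw [S.card_eq_index_normalizer]
      have h2 : Nat.card N * N.index = Nat.card G := N.card_mul_index
      rw [hN22, h.card_G b] at h2
      exact Nat.eq_of_mul_eq_mul_left (by norm_num : 0 < 22) h2
    have := card_sylow_modEq_one 11 G
    rw [h1] at this
    exact this

end Cfsg.Lib.SolvStruct.TwentyTwo
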