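/-
No finite group has exactly 22 Sylow 3-subgroups: the action on the orbits of one Sylow subgroup.
-/
import Cfsg.Agent.SolvStruct.TwentyTwo.Defs

set_option linter.style.haveILetI false
set_option linter.unusedSectionVars false
set_option autoImplicit false

namespace Cfsg.Lib.SolvStruct.TwentyTwo

open Equiv Equiv.Perm MulAction Subgroup
open scoped Pointwise

universe u

variable {α : Type u} [Fintype α] [DecidableEq α] {G : Subgroup (Perm α)} {P : α → Subgroup (Perm α)}

/-- The orbits of `P a` off `a`, as a type. -/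
abbrev Blk (P : α → Subgroup (Perm α)) (a : α) : Type u := {B : Set α // B ∈ blocks P a}

/-- The block of a point. -/
noncomputable def blk (P : α → Subgroup (Perm α)) {a q : α} (hq : q ≠ a) : Blk P a :=
  ⟨orb P a q, mem_blocks.2 ⟨q, hq, rfl⟩⟩

theorem blk_eq {a q : α} (hq : q ≠ a) (B : Blk P a) (hB : q ∈ B.1) : blk P hq = B := by
  obtain ⟨r, hr, hrB⟩ := mem_blocks.1 B.2
  refine Subtype.ext ?_
  show orb P a q = B.1
  rw [← hrB] at hB ⊢
  exact orb_eq hB

theorem Cfg.ne_of_mem_blk (h : Cfg G P) {a q : α} {B : Blk P a} (hq : q ∈ B.1) : q ≠ a := by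
  obtain ⟨r, hr, hrB⟩ := mem_blocks.1 B.2
  rw [← hrB] at hq
  exact h.ne_of_mem_orb hr hq

theorem Cfg.orb_of_mem_blk (h : Cfg G P) {a q : α} {B : Blk P a} (hq : q ∈ B.1) : orb P a q = B.1 :=
  congrArg Subtype.val (blk_eq (h.ne_of_mem_blk hq) B hq)

theorem exists_mem_blk {a : α} (B : Blk P a) : ∃ q, q ∈ B.1 := by
  obtain ⟨r, -, hrB⟩ := mem_blocks.1 B.2
  exact ⟨r, hrB ▸ mem_orb_self P a r⟩

theorem blk_disjoint (h : Cfg G P) {a q : α} {B C : Blk P a} (hB : q ∈ B.1) (hC : q ∈ C.1) : B = C :=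
  (blk_eq (h.ne_of_mem_blk hB) B hB).symm.trans (blk_eq (h.ne_of_mem_blk hB) C hC)

theorem Cfg.image_mem_blocks (h : Cfg G P) {a : α} {g : Perm α} (hg : g ∈ stab G a) {B : Set α}
    (hB : B ∈ blocks P a) : g '' B ∈ blocks P a := by
  obtain ⟨q, hq, rfl⟩ := mem_blocks.1 hB
  refine mem_blocks.2 ⟨g q, fun e => hq (g.injective (e.trans hg.2.symm)), ?_⟩
  rw [h.orb_image hg.1, (mem_stab.1 hg).2]

/-- The permutation induced on the blocks. -/
noncomputable def bPerm (h : Cfg G P) (a : α) (g : stab G a) : Perm (Blk P a) where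
  toFun B := ⟨(g : Perm α) '' B.1, h.image_mem_blocks g.2 B.2⟩
  invFun B := ⟨((g : Perm α)⁻¹ : Perm α) '' B.1, h.image_mem_blocks ((stab G a).inv_mem g.2) B.2⟩
  left_inv B := Subtype.ext (by simp [Set.image_image])
  right_inv B := Subtype.ext (by simp [Set.image_image])

/-- The action of a point stabiliser on the blocks. -/
noncomputable def bHom (h : Cfg G P) (a : α) : stab G a →* Perm (Blk P a) :=
  MonoidHom.mk' (bPerm h a) fun g g' => Equiv.ext fun B => Subtype.ext (by simp [bPerm, Set.image_image])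

theorem bHom_apply (h : Cfg G P) {a : α} (g : stab G a) (B : Blk P a) :
    (bHom h a g B).1 = (g : Perm α) '' B.1 := rfl

theorem bHom_blk (h : Cfg G P) {a q : α} (g : stab G a) {B : Blk P a} (hq : q ∈ B.1) :
    (g : Perm α) q ∈ (bHom h a g B).1 := ⟨q, hq, rfl⟩

theorem mem_ker_bHom (h : Cfg G P) {a : α} {g : stab G a} :
    g ∈ (bHom h a).ker ↔ ∀ B : Blk P a, ∀ q ∈ B.1, (g : Perm α) q ∈ B.1 := by
  rw [MonoidHom.mem_ker]
  constructor
  · intro hg B q hq
    have := bHom_blk h g hq
    rwa [hg, Perm.one_apply] at this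
  · intro hg
    ext B : 1
    obtain ⟨q, hq⟩ := exists_mem_blk B
    exact blk_disjoint h (bHom_blk h g hq) (hg B q hq)

theorem Cfg.P_le_ker (h : Cfg G P) {a : α} {x : Perm α} (hx : x ∈ P a) :
    (⟨x, h.P_le_stab a hx⟩ : stab G a) ∈ (bHom h a).ker := by
  rw [mem_ker_bHom]
  intro B q hq
  rw [← h.orb_of_mem_blk hq]
  exact mem_orb.2 ⟨x, hx, rfl⟩

/-- The image on the blocks has order prime to three. -/
theorem Cfg.three_not_dvd_range (h : Cfg G P) (a : α) : ¬ 3 ∣ Nat.card (bHom h a).range := by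
  intro hd
  apply h.sylow a
  rw [← index_ker] at hd
  have hle : (P a).subgroupOf (stab G a) ≤ (bHom h a).ker := fun g hg => h.P_le_ker hg
  refine hd.trans ((index_dvd_of_le hle).trans ?_)
  exact Dvd.intro _ (relIndex_mul_relIndex (P a) (stab G a) G (h.P_le_stab a) inf_le_left)

/-- An element of prime order above three fixing a block of size three fixes it pointwise. -/
theorem three_pointwise {p n : ℕ} [hp : Fact p.Prime] (hp3 : 3 < p) {g : Perm α} (hg : g ^ p ^ n = 1)
    {B : Set α} (hB : B.ncard = 3) (hinv : ∀ q ∈ B, g q ∈ B) : ∀ q ∈ B, g q = q := by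
  intro q hq
  set S := B.toFinite.toFinset with hS
  have hSc : S.card = 3 := by rw [hS, ← Set.ncard_eq_toFinset_card _ _]; exact hB
  have hm := card_fixed_modEq hg S (fun z hz => by
    rw [hS, Set.Finite.mem_toFinset] at hz ⊢
    exact hinv z hz)
  have hle : (S.filter fun z => g z = z).card ≤ 3 := hSc ▸ Finset.card_filter_le _ _
  rw [hSc] at hm
  have heq : (S.filter fun z => g z = z).card = 3 := by
    unfold Nat.ModEq at hm
    rw [Nat.mod_eq_of_lt hp3, Nat.mod_eq_of_lt (by omega)] at hm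
    exact hm
  have := Finset.eq_of_subset_of_card_le (Finset.filter_subset _ S) (by rw [heq, hSc])
  have hqS : q ∈ S.filter fun z => g z = z := this.symm ▸ by rw [hS, Set.Finite.mem_toFinset]; exact hq
  exact (Finset.mem_filter.1 hqS).2

/-- A prime order automorphism of a small group with the wrong congruences is trivial. -/
theorem Cfg.centralises_of_prime (h : Cfg G P) {p : ℕ} [Fact p.Prime] {d : Perm α} (hd : d ∈ G) {b : α}
    (hdb : d b = b) (hdp : d ^ p = 1)
    (hdiv : ∀ k ∈ Nat.divisors (Nat.card (P b)), k % p = Nat.card (P b) % p → k = Nat.card (P b)) :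
    ∀ x ∈ P b, d * x = x * d := by
  classical
  set g : Perm (Perm α) := MulAut.toPerm (Perm α) (MulAut.conj d) with hgdef
  have hgp : g ^ p ^ 1 = 1 := by
    rw [pow_one, hgdef, ← map_pow, ← map_pow, hdp, map_one, map_one]
  have happ : ∀ x, g x = d * x * d⁻¹ := fun x => rfl
  set S : Finset (Perm α) := Finset.univ.filter (fun x => x ∈ P b) with hS
  have hm := card_fixed_modEq hgp S (fun x hx => by
    rw [hS, Finset.mem_filter] at hx ⊢
    exact ⟨Finset.mem_univ _, by rw [happ]; exact h.conj_mem_self hd hdb hx.2⟩)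
  set C := P b ⊓ centralizer ({d} : Set (Perm α)) with hC
  have hmemC : ∀ x, x ∈ C ↔ x ∈ P b ∧ g x = x := by
    intro x
    rw [hC, mem_inf, mem_centralizer_iff, happ, mul_inv_eq_iff_eq_mul]
    simp
  have hSc : S.card = Nat.card (P b) := by
    rw [Nat.card_eq_fintype_card, hS]
    exact (Fintype.card_subtype _).symm
  have hFc : (S.filter fun x => g x = x).card = Nat.card C := by
    rw [Nat.card_eq_fintype_card, hS, Finset.filter_filter]
    refine (Eq.trans ?_ (Fintype.card_subtype _).symm)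
    congr 1
    ext x
    simp [hmemC]
  rw [hSc, hFc] at hm
  have hCc : Nat.card C = Nat.card (P b) :=
    hdiv _ (Nat.mem_divisors.2 ⟨card_dvd_of_le inf_le_left, Nat.card_pos.ne'⟩) hm
  have heq : C = P b := Subgroup.eq_of_le_of_card_ge inf_le_left hCc.ge
  intro x hx
  have hx' : x ∈ C := heq.symm ▸ hx
  exact mem_centralizer_iff.1 hx'.2 d rfl

open Classical in
/-- Counting fixed points block by block. -/
theorem Cfg.fixS_count (h : Cfg G P) {a : α} {g : Perm α} (hga : g a = a) :
    (fixS g).ncard = 1 + ∑ B : Blk P a, (Finset.univ.filter fun q => q ∈ B.1 ∧ g q = q).card := by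
  rw [Set.ncard_eq_toFinset_card']
  have hdisj : ∀ B ∈ (Finset.univ : Finset (Blk P a)), ∀ C ∈ (Finset.univ : Finset (Blk P a)), B ≠ C →
      Disjoint (Finset.univ.filter fun q => q ∈ B.1 ∧ g q = q)
        (Finset.univ.filter fun q => q ∈ C.1 ∧ g q = q) := by
    intro B _ C _ hBC
    rw [Finset.disjoint_left]
    intro q hq hq'
    exact hBC (blk_disjoint h (Finset.mem_filter.1 hq).2.1 (Finset.mem_filter.1 hq').2.1)
  have hset : (fixS g).toFinset = insert a ((Finset.univ : Finset (Blk P a)).biUnion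
      fun B => Finset.univ.filter fun q => q ∈ B.1 ∧ g q = q) := by
    ext q
    simp only [Set.mem_toFinset, mem_fixS, Finset.mem_insert, Finset.mem_biUnion, Finset.mem_univ,
      Finset.mem_filter, true_and]
    constructor
    · intro hq
      by_cases hqa : q = a
      · exact Or.inl hqa
      · exact Or.inr ⟨blk P hqa, mem_orb_self P a q, hq⟩
    · rintro (rfl | ⟨B, -, hq⟩)
      exacts [hga, hq]
  rw [hset, Finset.card_insert_of_notMem, Finset.card_biUnion hdisj, add_comm]
  simp only [Finset.mem_biUnion, Finset.mem_univ, Finset.mem_filter, true_and, not_exists, not_and]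
  exact fun B haB => absurd rfl (h.ne_of_mem_blk haB)

end Cfsg.Lib.SolvStruct.TwentyTwo
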