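/-
No finite group has exactly 22 Sylow 3-subgroups: seven orbits of length three, generalities.
-/
import Cfsg.Agent.SolvStruct.TwentyTwo.Blocks

set_option linter.style.haveILetI false
set_option linter.unusedSectionVars false
set_option autoImplicit false

namespace Cfsg.Lib.SolvStruct.TwentyTwo

open Equiv Equiv.Perm MulAction Subgroup

universe u

variable {α : Type u} [Fintype α] [DecidableEq α] {G : Subgroup (Perm α)} {P : α → Subgroup (Perm α)}

/-- All orbits off the fixed point have length three. -/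
def AllThree (P : α → Subgroup (Perm α)) : Prop := ∀ b q : α, q ≠ b → (orb P b q).ncard = 3

theorem Cfg.blk_ncard (h : Cfg G P) (hall : AllThree P) {a : α} (B : Blk P a) : B.1.ncard = 3 := by
  obtain ⟨q, hq, hB⟩ := mem_blocks.1 B.2
  rw [← hB]
  exact hall a q hq

theorem Cfg.card_blk (h : Cfg G P) (hall : AllThree P) (a : α) : Fintype.card (Blk P a) = 7 := by
  rw [Fintype.card_coe]
  have hs := h.sum_blocks a
  rw [Finset.sum_congr rfl (fun B hB => h.blk_ncard hall ⟨B, hB⟩), Finset.sum_const, smul_eq_mul] at hs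
  omega

theorem Cfg.fix_blk (h : Cfg G P) (hall : AllThree P) {a : α} {x : Perm α} (hx : x ∈ P a) {B : Blk P a}
    {q : α} (hq : q ∈ B.1) (hxq : x q = q) : ∀ r ∈ B.1, x r = r := by
  intro r hr
  rw [← h.orb_of_mem_blk hq] at hr
  exact h.three_fix (hall a q (h.ne_of_mem_blk hq)) hx hxq hr

theorem Cfg.P_mem_blk (h : Cfg G P) {a : α} {x : Perm α} (hx : x ∈ P a) {B : Blk P a} {q : α}
    (hq : q ∈ B.1) : x q ∈ B.1 := by
  rw [← h.orb_of_mem_blk hq]
  exact mem_orb.2 ⟨x, hx, rfl⟩

theorem Cfg.cube (h : Cfg G P) (hall : AllThree P) {a : α} {x : Perm α} (hx : x ∈ P a) : x ^ 3 = 1 := by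
  ext q
  by_cases hq : q = a
  · rw [hq, Perm.one_apply]; exact h.fix a _ ((P a).pow_mem hx 3)
  · exact h.three_cube (hall a q hq) hx

theorem Cfg.comm (h : Cfg G P) (hall : AllThree P) {a : α} {x y : Perm α} (hx : x ∈ P a) (hy : y ∈ P a) :
    x * y = y * x := by
  ext q
  by_cases hq : q = a
  · simp [hq, h.fix a x hx, h.fix a y hy]
  · exact h.three_comm (hall a q hq) hx hy

theorem Cfg.comm_fixed (h : Cfg G P) (hall : AllThree P) {a : α} {x : Perm α} (hx : x ∈ P a) (b : α)
    (hb : x b = b) : ∀ y ∈ P b, x * y = y * x :=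
  fun _ hy => h.comm hall (h.mem_P_of_fix hx hb) hy

theorem Cfg.fix_dvd (h : Cfg G P) (hall : AllThree P) {a : α} {x : Perm α} (hx : x ∈ P a) :
    (fixS x).ncard ∣ Nat.card G :=
  h.fixS_dvd (h.fix a x hx) (h.comm_fixed hall hx)

theorem Cfg.range_dvd (h : Cfg G P) (hall : AllThree P) (a : α) : Nat.card (bHom h a).range ∣ 560 := by
  have h1 := card_subgroup_dvd_card (bHom h a).range
  rw [Nat.card_perm, Nat.card_eq_fintype_card (α := Blk P a), h.card_blk hall a] at h1
  have h2 : Nat.Coprime (Nat.card (bHom h a).range) 9 := by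
    have := (Nat.prime_three.coprime_iff_not_dvd.2 (h.three_not_dvd_range a)).symm
    exact Nat.Coprime.pow_right 2 this
  have h3 : Nat.card (bHom h a).range ∣ 560 * 9 := by
    have e : Nat.factorial 7 = 560 * 9 := by decide
    exact e ▸ h1
  exact h2.dvd_of_dvd_mul_right h3

theorem Cfg.prime_ker (h : Cfg G P) (hall : AllThree P) {a : α} {p : ℕ} [Fact p.Prime] (hp3 : 3 < p)
    {g : stab G a} (hg : g ∈ (bHom h a).ker) (hgp : g ^ p = 1) : g = 1 := by
  refine Subtype.ext (Equiv.ext fun q => ?_)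
  rw [OneMemClass.coe_one, Perm.one_apply]
  by_cases hq : q = a
  · rw [hq]; exact g.2.2
  · refine three_pointwise (p := p) (n := 1) hp3 ?_ (h.blk_ncard hall (blk P hq))
      ((mem_ker_bHom h).1 hg (blk P hq)) q (mem_orb_self P a q)
    rw [pow_one, ← SubmonoidClass.coe_pow, hgp, OneMemClass.coe_one]

theorem Cfg.exists_prime_elem (h : Cfg G P) (hall : AllThree P) {a : α} {p : ℕ} [hp : Fact p.Prime]
    (hp3 : 3 < p) (hd : p ∣ Nat.card (stab G a)) :
    ∃ g : stab G a, g ^ p = 1 ∧ orderOf (bHom h a g) = p := by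
  obtain ⟨g, hg⟩ := exists_prime_orderOf_dvd_card' (G := stab G a) p hd
  have hgp : g ^ p = 1 := hg ▸ pow_orderOf_eq_one g
  refine ⟨g, hgp, orderOf_eq_prime (by rw [← map_pow, hgp, map_one]) fun e => ?_⟩
  rw [h.prime_ker hall hp3 (MonoidHom.mem_ker.2 e) hgp, orderOf_one] at hg
  exact hp.out.ne_one hg.symm

theorem Cfg.prime_dvd_range (h : Cfg G P) (hall : AllThree P) {a : α} {p : ℕ} [Fact p.Prime] (hp3 : 3 < p)
    (hd : p ∣ Nat.card (stab G a)) : p ∣ Nat.card (bHom h a).range := by
  obtain ⟨g, -, hg⟩ := h.exists_prime_elem hall hp3 hd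
  rw [← hg, ← Subgroup.orderOf_mk (bHom h a g) (MonoidHom.mem_range.2 ⟨g, rfl⟩)]
  exact orderOf_dvd_natCard _

/-- A cycle of length seven on seven points is transitive. -/
theorem seven_cycle {β : Type*} [Fintype β] [DecidableEq β] (hβ : Fintype.card β = 7) {c : Perm β}
    (hc : orderOf c = 7) : c.IsCycle ∧ ∀ z : β, c z ≠ z := by
  obtain ⟨n, hn⟩ := cycleType_prime_order (σ := c) (by rw [hc]; norm_num)
  rw [hc] at hn
  have hsum := sum_cycleType c
  have hle := c.support.card_le_univ
  rw [hn, Multiset.sum_replicate, smul_eq_mul] at hsum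
  rw [hβ] at hle
  refine ⟨?_, fun z hz => ?_⟩
  · rw [← card_cycleType_eq_one, hn, Multiset.card_replicate]
    omega
  · have huniv : c.support = Finset.univ := Finset.eq_univ_of_card _ (by rw [hβ]; omega)
    exact mem_support.1 (huniv.symm ▸ Finset.mem_univ z) hz

/-- Five and seven cannot both divide such a subgroup of the symmetric group of degree seven. -/
theorem not_five_seven {β : Type*} [Fintype β] [DecidableEq β] (hβ : Fintype.card β = 7)
    (H : Subgroup (Perm β)) (hd : Nat.card H ∣ 560) (h5 : 5 ∣ Nat.card H) (h7 : 7 ∣ Nat.card H) : False := by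
  haveI : Fact (Nat.Prime 7) := ⟨by norm_num⟩
  haveI : Fact (Nat.Prime 5) := ⟨by norm_num⟩
  obtain ⟨S⟩ : Nonempty (Sylow 7 H) := inferInstance
  have hSc : Nat.card (S : Subgroup H) = 7 := by
    obtain ⟨j, hj⟩ := IsPGroup.iff_card.1 S.2
    have h1 : 7 ∣ Nat.card (S : Subgroup H) := S.dvd_card_of_dvd_card h7
    have h2 : 7 ^ j ∣ 560 := hj ▸ ((S : Subgroup H).card_subgroup_dvd_card.trans hd)
    rcases j with _ | _ | j
    · rw [hj] at h1; norm_num at h1
    · simpa using hj
    · exfalso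
      have := (pow_dvd_pow 7 (show 2 ≤ j + 1 + 1 by omega)).trans h2
      norm_num at this
  have hidx : Nat.card (Sylow 7 H) ∣ 80 := by
    refine S.card_dvd_index.trans ?_
    have h1 : 7 * (S : Subgroup H).index ∣ 7 * 80 := by
      have h0 : Nat.card (S : Subgroup H) * (S : Subgroup H).index = Nat.card H := (S : Subgroup H).card_mul_index
      rw [hSc] at h0
      rw [h0]
      exact hd
    exact Nat.dvd_of_mul_dvd_mul_left (by norm_num) h1
  have hn : Nat.card (Sylow 7 H) = 1 ∨ Nat.card (Sylow 7 H) = 8 := by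
    have hdiv : Nat.divisors 80 = {1, 2, 4, 5, 8, 10, 16, 20, 40, 80} := by decide +kernel
    have hm : Nat.card (Sylow 7 H) ∈ Nat.divisors 80 := Nat.mem_divisors.2 ⟨hidx, by norm_num⟩
    have hmod := card_sylow_modEq_one 7 H
    rw [hdiv] at hm
    simp only [Finset.mem_insert, Finset.mem_singleton] at hm
    unfold Nat.ModEq at hmod
    omega
  set N := normalizer (S : Set H)
  have hN5 : 5 ∣ Nat.card N := by
    have h1 : Nat.card N * N.index = Nat.card H := N.card_mul_index
    rw [← S.card_eq_index_normalizer] at h1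
    rw [← h1] at h5
    rcases hn with e | e <;> rw [e] at h5
    · simpa using h5
    · exact (Nat.Coprime.dvd_mul_right (by norm_num)).1 h5
  obtain ⟨d, hd5⟩ := exists_prime_orderOf_dvd_card' (G := N) 5 hN5
  haveI : IsCyclic (S : Subgroup H) := isCyclic_of_prime_card hSc
  have hf1 : (S : Subgroup H).normalizerMonoidHom d = 1 := by
    refine orderOf_eq_one_iff.1 (Nat.eq_one_of_dvd_coprimes (show Nat.Coprime 5 6 by norm_num)
      ((orderOf_map_dvd _ d).trans hd5.dvd) ?_)
    have := orderOf_dvd_natCard ((S : Subgroup H).normalizerMonoidHom d)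
    rwa [IsCyclic.card_mulAut, hSc, Nat.totient_prime (by norm_num)] at this
  have hker : d ∈ (S : Subgroup H).normalizerMonoidHom.ker := hf1
  rw [normalizerMonoidHom_ker, mem_subgroupOf] at hker
  obtain ⟨c, hc⟩ := exists_prime_orderOf_dvd_card' (G := (S : Subgroup H)) 7 hSc.symm.dvd
  set c₀ : Perm β := ((c : H) : Perm β) with hc0
  set d₀ : Perm β := ((d : H) : Perm β) with hd0
  have hco : orderOf c₀ = 7 := by rw [hc0, Subgroup.orderOf_coe, Subgroup.orderOf_coe, hc]
  have hdo : orderOf d₀ = 5 := by rw [hd0, Subgroup.orderOf_coe, Subgroup.orderOf_coe, hd5]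
  have hcomm : Commute d₀ c₀ := (congrArg Subtype.val (mem_centralizer_iff.1 hker (c : H) c.2)).symm
  obtain ⟨hcyc, hfree⟩ := seven_cycle hβ hco
  have hd51 : d₀ ^ 5 ^ 1 = 1 := by rw [pow_one, ← hdo, pow_orderOf_eq_one]
  have hm := card_compl_support_modEq hd51
  rw [hβ] at hm
  obtain ⟨z, hz⟩ : ∃ z, d₀ z = z := by
    have hpos : 0 < d₀.supportᶜ.card := by
      rcases Nat.eq_zero_or_pos d₀.supportᶜ.card with e | e
      · rw [e] at hm; exact absurd hm (by decide)
      · exact e
    obtain ⟨z, hz⟩ := Finset.card_pos.1 hpos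
    exact ⟨z, by simpa using hz⟩
  have : d₀ = 1 := by
    ext r
    obtain ⟨i, hi⟩ := hcyc.exists_zpow_eq (hfree z) (hfree r)
    rw [Perm.one_apply, ← hi, ← Perm.mul_apply, (hcomm.zpow_right i).eq, Perm.mul_apply, hz]
  rw [this, orderOf_one] at hdo
  omega

end Cfsg.Lib.SolvStruct.TwentyTwo
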