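/-
No finite group has exactly 22 Sylow 3-subgroups: seven orbits, larger Sylow subgroups.
-/
import Cfsg.Agent.SolvStruct.TwentyTwo.SevenBasics
import Cfsg.Agent.SolvStruct.TwentyTwo.Eleven

set_option linter.style.haveILetI false
set_option linter.unusedSectionVars false
set_option autoImplicit false

namespace Cfsg.Lib.SolvStruct.TwentyTwo

open Equiv Equiv.Perm MulAction Subgroup

universe u

variable {α : Type u} [Fintype α] [DecidableEq α] {G : Subgroup (Perm α)} {P : α → Subgroup (Perm α)}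

theorem Cfg.card_le_stab (h : Cfg G P) (hall : AllThree P) {a : α} {K : Subgroup (Perm α)} (hK : K ≤ P a)
    {q : α} (hq : q ≠ a) : Nat.card K ≤ 3 * Nat.card (stab K q) := by
  rw [← card_orbit_mul K q]
  refine Nat.mul_le_mul_right _ ((Set.ncard_le_ncard ?_).trans_eq (hall a q hq))
  rintro _ ⟨g, rfl⟩
  exact mem_orb.2 ⟨g, hK g.2, rfl⟩

open Classical in
/-- The blocks moved by an element. -/
noncomputable def moved (P : α → Subgroup (Perm α)) (a : α) (x : Perm α) : Finset (Blk P a) :=
  Finset.univ.filter fun B => ¬ ∀ q ∈ B.1, x q = q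

theorem mem_moved {a : α} {x : Perm α} {B : Blk P a} : B ∈ moved P a x ↔ ¬ ∀ q ∈ B.1, x q = q := by
  classical
  simp [moved]

theorem Cfg.moved_point (h : Cfg G P) (hall : AllThree P) {a : α} {x : Perm α} (hx : x ∈ P a)
    {B : Blk P a} {q : α} (hq : q ∈ B.1) : x q ≠ q ↔ B ∈ moved P a x := by
  rw [mem_moved]
  exact ⟨fun hne hfix => hne (hfix q hq), fun hm hfix => hm (h.fix_blk hall hx hq hfix)⟩

theorem Cfg.fixed_of_not_moved (h : Cfg G P) {a : α} {x : Perm α} {B : Blk P a} (hB : B ∉ moved P a x) :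
    ∀ q ∈ B.1, x q = q := by
  rw [mem_moved, not_not] at hB
  exact hB

theorem Cfg.eq_one_of_moved (h : Cfg G P) {a : α} {x : Perm α} (hx : x ∈ P a)
    (hm : moved P a x = ∅) : x = 1 := by
  ext q
  rw [Perm.one_apply]
  by_cases hq : q = a
  · rw [hq, h.fix a x hx]
  · exact h.fixed_of_not_moved (B := blk P hq) (by rw [hm]; exact Finset.notMem_empty _) q (mem_orb_self P a q)

theorem Cfg.fixS_moved (h : Cfg G P) (hall : AllThree P) {a : α} {x : Perm α} (hx : x ∈ P a) :
    (fixS x).ncard + 3 * (moved P a x).card = 22 := by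
  classical
  rw [h.fixS_count (h.fix a x hx)]
  have key : ∀ B : Blk P a, (Finset.univ.filter fun q => q ∈ B.1 ∧ x q = q).card +
      (if B ∈ moved P a x then 3 else 0) = 3 := by
    intro B
    split_ifs with hB
    · rw [Nat.add_eq_right, Finset.card_eq_zero, Finset.filter_eq_empty_iff]
      exact fun q _ hq => (h.moved_point hall hx hq.1).2 hB hq.2
    · rw [add_zero, ← h.blk_ncard hall B, Set.ncard_eq_toFinset_card']
      congr 1
      ext q
      simpa using h.fixed_of_not_moved hB q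
  have hsum : ∑ B : Blk P a, ((Finset.univ.filter fun q => q ∈ B.1 ∧ x q = q).card +
      (if B ∈ moved P a x then 3 else 0)) = 21 := by
    rw [Finset.sum_congr rfl (fun B _ => key B), Finset.sum_const, Finset.card_univ, h.card_blk hall a]
    rfl
  rw [Finset.sum_add_distrib, ← Finset.sum_filter, Finset.sum_const, smul_eq_mul,
    Finset.filter_mem_eq_inter, Finset.univ_inter] at hsum
  omega

theorem Cfg.moved_conj (h : Cfg G P) {a : α} (g : stab G a) {x : Perm α} {B : Blk P a} :
    bHom h a g B ∈ moved P a ((g : Perm α) * x * (g : Perm α)⁻¹) ↔ B ∈ moved P a x := by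
  rw [mem_moved, mem_moved, not_iff_not]
  constructor
  · intro hf q hq
    have := hf _ (bHom_blk h g hq)
    simpa using this
  · intro hf r hr
    rw [bHom_apply] at hr
    obtain ⟨q, hq, rfl⟩ := hr
    simp [hf q hq]

/-- Seven divides the stabiliser order only in a transitive case, and then five does not. -/
theorem Cfg.not_dvd_G (h : Cfg G P) (hall : AllThree P) {a : α} (h7 : 7 ∣ Nat.card (stab G a)) :
    ¬ 5 ∣ Nat.card G ∧ ¬ 13 ∣ Nat.card G ∧ ¬ 19 ∣ Nat.card G := by
  haveI : Fact (Nat.Prime 7) := ⟨by norm_num⟩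
  rw [h.card_G a]
  have hd := h.range_dvd hall a
  refine ⟨fun e => ?_, fun e => ?_, fun e => ?_⟩
  · haveI : Fact (Nat.Prime 5) := ⟨by norm_num⟩
    exact not_five_seven (h.card_blk hall a) _ hd (h.prime_dvd_range hall (by norm_num)
      ((Nat.Coprime.dvd_mul_left (by norm_num)).1 e)) (h.prime_dvd_range hall (by norm_num) h7)
  · haveI : Fact (Nat.Prime 13) := ⟨by norm_num⟩
    have := (h.prime_dvd_range hall (by norm_num) ((Nat.Coprime.dvd_mul_left (by norm_num)).1 e)).trans hd
    norm_num at this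
  · haveI : Fact (Nat.Prime 19) := ⟨by norm_num⟩
    have := (h.prime_dvd_range hall (by norm_num) ((Nat.Coprime.dvd_mul_left (by norm_num)).1 e)).trans hd
    norm_num at this

/-- The orbit of five blocks is impossible. -/
theorem Cfg.false_of_five (h : Cfg G P) (hall : AllThree P) {a : α} (hP : 3 < Nat.card (P a))
    {B₁ B₂ : Blk P a} (h12 : B₁ ≠ B₂)
    (hinv : ∀ g : stab G a, ∀ B, B = B₁ ∨ B = B₂ → bHom h a g B = B₁ ∨ bHom h a g B = B₂)
    (h5 : 5 ∣ Nat.card (stab G a)) (h7 : ¬ 7 ∣ Nat.card (stab G a)) : False := by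
  classical
  haveI : Fact (Nat.Prime 3) := ⟨Nat.prime_three⟩
  haveI : Fact (Nat.Prime 5) := ⟨by norm_num⟩
  obtain ⟨q₁, hq₁⟩ := exists_mem_blk B₁
  obtain ⟨q₂, hq₂⟩ := exists_mem_blk B₂
  set Q := stab (stab (P a) q₁) q₂ with hQdef
  have hQ : ∀ x ∈ Q, ∀ B, B = B₁ ∨ B = B₂ → ∀ q ∈ B.1, x q = q := by
    rintro x ⟨⟨hx, hx1⟩, hx2⟩ B (rfl | rfl) q hq
    · exact h.fix_blk hall hx hq₁ hx1 q hq
    · exact h.fix_blk hall hx hq₂ hx2 q hq
  have hbot : Q = ⊥ := by
    refine h.core_of_normalised (b := q₁) (h.ne_of_mem_blk hq₁) (inf_le_left.trans inf_le_left) ?_ ?_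
    · intro g hg x hx
      have hmv : ∀ q, (∃ B, (B = B₁ ∨ B = B₂) ∧ q ∈ B.1) → (g * x * g⁻¹) q = q := by
        rintro q ⟨B, hB, hq⟩
        have h1 := hQ x hx _ (hinv ⟨g⁻¹, (stab G a).inv_mem hg⟩ B hB) _ (bHom_blk h ⟨g⁻¹, (stab G a).inv_mem hg⟩ hq)
        simp only at h1
        rw [Perm.mul_apply, Perm.mul_apply, h1]
        simp
      exact ⟨⟨h.conj_mem_self hg.1 hg.2 hx.1.1, hmv q₁ ⟨B₁, Or.inl rfl, hq₁⟩⟩,
        hmv q₂ ⟨B₂, Or.inr rfl, hq₂⟩⟩
    · intro g hg x hx
      have h1 := h.comm hall (h.mem_P_of_fix hx.1.1 hx.1.2) hg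
      rw [← h1]
      simpa using hx
  have hP9 : Nat.card (P a) = 9 := by
    have h1 := h.card_le_stab hall (le_refl (P a)) (h.ne_of_mem_blk hq₁)
    have h2 : Nat.card (stab (P a) q₁) ≤ 3 * Nat.card Q :=
      h.card_le_stab hall inf_le_left (h.ne_of_mem_blk hq₂)
    rw [hbot, card_bot] at h2
    obtain ⟨n, hn⟩ := IsPGroup.iff_card.1 (h.pgroup a)
    rw [hn] at hP h1 ⊢
    rcases n with _ | _ | _ | n
    · norm_num at hP
    · norm_num at hP
    · norm_num
    · have : 3 ^ 3 ≤ 3 ^ (n + 1 + 1 + 1) := Nat.pow_le_pow_right (by norm_num) (by omega)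
      omega
  obtain ⟨d, hd5, hdo⟩ := h.exists_prime_elem hall (p := 5) (by norm_num) h5
  have hd' : (d : Perm α) ^ 5 = 1 := by rw [← SubmonoidClass.coe_pow, hd5, OneMemClass.coe_one]
  set σ := bHom h a d with hσ
  have hσ5 : σ ^ 5 ^ 1 = 1 := by rw [pow_one, ← hdo, pow_orderOf_eq_one]
  have hpair : ∀ B, B = B₁ ∨ B = B₂ → σ B = B := by
    have hm := card_fixed_modEq hσ5 ({B₁, B₂} : Finset (Blk P a)) (fun z hz => by
      simp only [Finset.mem_insert, Finset.mem_singleton] at hz ⊢
      exact hinv d z hz)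
    have hc : ({B₁, B₂} : Finset (Blk P a)).card = 2 := Finset.card_pair h12
    rw [hc] at hm
    have hle : (({B₁, B₂} : Finset (Blk P a)).filter fun z => σ z = z).card ≤ 2 :=
      hc ▸ Finset.card_filter_le _ _
    have heq : (({B₁, B₂} : Finset (Blk P a)).filter fun z => σ z = z).card = 2 := by
      unfold Nat.ModEq at hm; omega
    have hall' := Finset.eq_of_subset_of_card_le
      (Finset.filter_subset (fun z => σ z = z) ({B₁, B₂} : Finset (Blk P a))) (by rw [heq, hc])
    intro B hB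
    have hmem : B ∈ ({B₁, B₂} : Finset (Blk P a)).filter fun z => σ z = z := by
      rw [hall']; simpa using hB
    exact (Finset.mem_filter.1 hmem).2
  have hfix2 : ∀ B, σ B = B → B = B₁ ∨ B = B₂ := by
    intro B hB
    by_contra hcon
    have hm := card_compl_support_modEq hσ5
    rw [h.card_blk hall a] at hm
    have hsub : ({B, B₁, B₂} : Finset (Blk P a)) ⊆ σ.supportᶜ := by
      simp [Finset.insert_subset_iff, hB, hpair B₁ (Or.inl rfl), hpair B₂ (Or.inr rfl)]
    have h3 := Finset.card_le_card hsub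
    rw [not_or] at hcon
    rw [Finset.card_eq_three.2 ⟨B, B₁, B₂, hcon.1, hcon.2, h12, rfl⟩] at h3
    have h7' : σ.supportᶜ.card ≤ 7 := h.card_blk hall a ▸ Finset.card_le_univ _
    have heq : σ.supportᶜ.card = 7 := by unfold Nat.ModEq at hm; omega
    have hone : σ = 1 := by
      ext z : 1
      have : σ.supportᶜ = Finset.univ := Finset.eq_univ_of_card _ (by rw [heq, h.card_blk hall a])
      have hz : z ∈ σ.supportᶜ := by rw [this]; exact Finset.mem_univ z
      simpa using hz
    rw [hone, orderOf_one] at hdo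
    omega
  have hseven : (fixS (d : Perm α)).ncard = 7 := by
    rw [h.fixS_count d.2.2]
    have key : ∀ B : Blk P a, (Finset.univ.filter fun q => q ∈ B.1 ∧ (d : Perm α) q = q).card =
        if B ∈ ({B₁, B₂} : Finset (Blk P a)) then 3 else 0 := by
      intro B
      split_ifs with hB
      · have hB' : σ B = B := hpair B (by simpa using hB)
        have hfix := three_pointwise (p := 5) (n := 1) (by norm_num) (by rw [pow_one]; exact hd')
          (h.blk_ncard hall B) (fun q hq => by
            have := bHom_blk h d hq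
            rwa [← hσ, hB'] at this)
        rw [← h.blk_ncard hall B, Set.ncard_eq_toFinset_card']
        congr 1
        ext q
        simpa using hfix q
      · rw [Finset.card_eq_zero, Finset.filter_eq_empty_iff]
        intro q _ hq
        apply hB
        have h1 := bHom_blk h d hq.1
        rw [hq.2] at h1
        simpa using hfix2 B (blk_disjoint h h1 hq.1)
    rw [Finset.sum_congr rfl (fun B _ => key B), ← Finset.sum_filter, Finset.filter_mem_eq_inter,
      Finset.univ_inter, Finset.sum_const, Finset.card_pair h12]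
    rfl
  have hcen : ∀ b, (d : Perm α) b = b → ∀ y ∈ P b, (d : Perm α) * y = y * d := by
    intro b hb
    refine h.centralises_of_prime (p := 5) d.2.1 hb hd' ?_
    rw [h.card_P b a, hP9]
    decide
  have h7G := h.fixS_dvd d.2.2 hcen
  rw [hseven, h.card_G a] at h7G
  exact h7 ((Nat.Coprime.dvd_mul_left (by norm_num)).1 h7G)

/-- The case of seven conjugate blocks: exactly two blocks can be moved. -/
theorem Cfg.exists_pair (h : Cfg G P) (hall : AllThree P) {a : α} (hP : 3 < Nat.card (P a))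
    (h7 : 7 ∣ Nat.card (stab G a)) :
    ∀ i j : Blk P a, i ≠ j → ∃ x ∈ P a, moved P a x = {i, j} := by
  classical
  haveI : Fact (Nat.Prime 3) := ⟨Nat.prime_three⟩
  haveI : Fact (Nat.Prime 7) := ⟨by norm_num⟩
  obtain ⟨c, hc7, hco⟩ := h.exists_prime_elem hall (p := 7) (by norm_num) h7
  obtain ⟨hcyc, hfree⟩ := seven_cycle (h.card_blk hall a) hco
  obtain ⟨n5, n13, n19⟩ := h.not_dvd_G hall h7
  have weight : ∀ x ∈ P a, x ≠ 1 → (moved P a x).card ≤ 4 → (moved P a x).card = 2 := by
    intro x hx hx1 hle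
    have hd := h.fix_dvd hall hx
    have hc := h.fixS_moved hall hx
    have hne : (moved P a x).card ≠ 0 := fun e => hx1 (h.eq_one_of_moved hx (Finset.card_eq_zero.1 e))
    generalize (moved P a x).card = m at *
    generalize (fixS x).ncard = f at *
    interval_cases m
    · exact absurd rfl hne
    · exact absurd ((show f = 19 by omega) ▸ hd) n19
    · rfl
    · exact absurd ((show f = 13 by omega) ▸ hd) n13
    · exact absurd ((dvd_mul_right 5 2).trans ((show f = 5 * 2 by omega) ▸ hd)) n5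
  have hbig : 81 ≤ Nat.card (P a) := by
    obtain ⟨n, hn⟩ := IsPGroup.iff_card.1 (h.pgroup a)
    by_contra hlt
    have hn3 : n = 2 ∨ n = 3 := by
      rcases n with _ | _ | _ | _ | n
      · rw [hn] at hP; norm_num at hP
      · rw [hn] at hP; norm_num at hP
      · exact Or.inl rfl
      · exact Or.inr rfl
      · exfalso
        rw [hn] at hlt
        have : 3 ^ 4 ≤ 3 ^ (n + 1 + 1 + 1 + 1) := Nat.pow_le_pow_right (by norm_num) (by omega)
        omega
    have hcen : ∀ y ∈ P a, (c : Perm α) * y = y * c := by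
      refine h.centralises_of_prime (p := 7) c.2.1 c.2.2
        (by rw [← SubmonoidClass.coe_pow, hc7, OneMemClass.coe_one]) ?_
      rw [hn]
      rcases hn3 with rfl | rfl <;> decide
    obtain ⟨b, hb⟩ := h.stab_ne a
    have h1 := card_orbit_mul (P a) b
    rw [show MulAction.orbit (P a) b = orb P a b from rfl, hall a b hb] at h1
    have h2 : stab (P a) b = ⊥ := by
      refine (Subgroup.eq_bot_iff_forall _).2 fun x hx => h.eq_one_of_moved hx.1 ?_
      rw [Finset.eq_empty_iff_forall_notMem]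
      intro B
      set B₀ := blk P hb
      obtain ⟨i, hi⟩ := hcyc.exists_zpow_eq (hfree B₀) (hfree B)
      obtain ⟨q, hq⟩ := exists_mem_blk B₀
      have hq' := bHom_blk h (c ^ i) hq
      rw [map_zpow, hi] at hq'
      rw [← h.moved_point hall hx.1 hq']
      intro hne
      apply hne
      have hcomm : Commute (((c ^ i : stab G a)) : Perm α) x := by
        rw [Subgroup.coe_zpow]
        exact (show Commute (c : Perm α) x from hcen x hx.1).zpow_left i
      rw [← Perm.mul_apply x, ← hcomm.eq, Perm.mul_apply,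
        h.fix_blk hall hx.1 (mem_orb_self P a b : b ∈ B₀.1) hx.2 q hq]
    rw [h2, card_bot] at h1
    omega
  -- an element moving exactly two blocks
  obtain ⟨x₀, hx₀, i₀, j₀, hij₀, hmov₀⟩ : ∃ x ∈ P a, ∃ i j, i ≠ j ∧ moved P a x = {i, j} := by
    obtain ⟨B₁, B₂, B₃, h12, h13, h23⟩ := Fintype.two_lt_card_iff.1
      (by rw [h.card_blk hall a]; norm_num : 2 < Fintype.card (Blk P a))
    obtain ⟨q₁, hq₁⟩ := exists_mem_blk B₁
    obtain ⟨q₂, hq₂⟩ := exists_mem_blk B₂
    obtain ⟨q₃, hq₃⟩ := exists_mem_blk B₃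
    have hcs1 := h.card_le_stab hall (le_refl (P a)) (h.ne_of_mem_blk hq₁)
    have hcs2 : Nat.card (stab (P a) q₁) ≤ 3 * Nat.card (stab (stab (P a) q₁) q₂) :=
      h.card_le_stab hall inf_le_left (h.ne_of_mem_blk hq₂)
    have hcs3 : Nat.card (stab (stab (P a) q₁) q₂) ≤
        3 * Nat.card (stab (stab (stab (P a) q₁) q₂) q₃) :=
      h.card_le_stab hall (inf_le_left.trans inf_le_left) (h.ne_of_mem_blk hq₃)
    have hne : stab (stab (stab (P a) q₁) q₂) q₃ ≠ ⊥ := by
      intro e
      rw [e, card_bot] at hcs3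
      omega
    obtain ⟨x, hx, hx1⟩ : ∃ x ∈ stab (stab (stab (P a) q₁) q₂) q₃, x ≠ 1 := by
      by_contra hcon
      push Not at hcon
      exact hne ((Subgroup.eq_bot_iff_forall _).2 hcon)
    obtain ⟨⟨⟨hxP, hx₁⟩, hx₂⟩, hx₃⟩ := hx
    have hsub : moved P a x ⊆ ({B₁, B₂, B₃} : Finset (Blk P a))ᶜ := by
      intro B hB
      simp only [Finset.mem_compl, Finset.mem_insert, Finset.mem_singleton]
      rintro (rfl | rfl | rfl)
      exacts [(h.moved_point hall hxP hq₁).2 hB hx₁, (h.moved_point hall hxP hq₂).2 hB hx₂,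
        (h.moved_point hall hxP hq₃).2 hB hx₃]
    have h4 := Finset.card_le_card hsub
    rw [Finset.card_compl, Finset.card_eq_three.2 ⟨B₁, B₂, B₃, h12, h13, h23, rfl⟩, h.card_blk hall a] at h4
    obtain ⟨i, j, hij, e⟩ := Finset.card_eq_two.1 (weight x hxP hx1 h4)
    exact ⟨x, hxP, i, j, hij, e⟩
  let R : Blk P a → Blk P a → Prop := fun i j => i = j ∨ ∃ x ∈ P a, moved P a x = {i, j}
  have Rsymm : ∀ i j, R i j → R j i := by
    rintro i j (rfl | ⟨x, hx, e⟩)
    · exact Or.inl rfl
    · exact Or.inr ⟨x, hx, by rw [e, Finset.pair_comm]⟩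
  have Rtrans : ∀ i j l, R i j → R j l → R i l := by
    rintro i j l (rfl | ⟨x, hx, ex⟩) hjl
    · exact hjl
    rcases hjl with rfl | ⟨y, hy, ey⟩
    · exact Or.inr ⟨x, hx, ex⟩
    by_cases hil : i = l
    · exact Or.inl hil
    by_cases hij : i = j
    · exact Or.inr ⟨y, hy, by rw [ey, hij]⟩
    by_cases hjl : j = l
    · exact Or.inr ⟨x, hx, by rw [ex, hjl]⟩
    right
    obtain ⟨q, hq⟩ := exists_mem_blk j
    have hxq : x q ≠ q := (h.moved_point hall hx hq).2 (by rw [ex]; simp)
    have hyq : y q ≠ q := (h.moved_point hall hy hq).2 (by rw [ey]; simp)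
    have hiy : i ∉ moved P a y := by rw [ey]; simp [hij, hil]
    have hlx : l ∉ moved P a x := by rw [ex]; simp [Ne.symm hil, Ne.symm hjl]
    obtain ⟨z, hz, hzq, hzi, hzo⟩ : ∃ z ∈ P a, z q = q ∧ (∀ r ∈ i.1, z r = x r) ∧
        ∀ B, B ∉ moved P a x → B ∉ moved P a y → ∀ r ∈ B.1, z r = r := by
      have h3x : x (x (x q)) = q := Equiv.congr_fun (h.cube hall hx) q
      have h2x : x (x q) ≠ q := fun e => hxq (by rw [e] at h3x; exact h3x)
      have hsub : ({q, x q, x (x q)} : Finset α) ⊆ j.1.toFinite.toFinset := by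
        simp [Set.insert_subset_iff, hq, h.P_mem_blk hx hq, h.P_mem_blk hx (h.P_mem_blk hx hq)]
      have hthree : ({q, x q, x (x q)} : Finset α).card = 3 :=
        Finset.card_eq_three.2 ⟨q, x q, x (x q), fun e => hxq e.symm, fun e => h2x e.symm,
          fun e => hxq (x.injective e).symm, rfl⟩
      have heq := Finset.eq_of_subset_of_card_le hsub
        (by rw [hthree, ← Set.ncard_eq_toFinset_card _ _, h.blk_ncard hall j])
      have hm : y q ∈ ({q, x q, x (x q)} : Finset α) := heq.symm ▸ by simpa using h.P_mem_blk hy hq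
      simp only [Finset.mem_insert, Finset.mem_singleton] at hm
      rcases hm with e | e | e
      · exact absurd e hyq
      · refine ⟨y⁻¹ * x, (P a).mul_mem ((P a).inv_mem hy) hx, ?_, fun r hr => ?_, fun B hBx hBy r hr => ?_⟩
        · rw [Perm.mul_apply, ← e]; simp
        · rw [Perm.mul_apply, Perm.inv_eq_iff_eq]
          exact (h.fixed_of_not_moved hiy _ (h.P_mem_blk hx hr)).symm
        · rw [Perm.mul_apply, h.fixed_of_not_moved hBx r hr, Perm.inv_eq_iff_eq,
            h.fixed_of_not_moved hBy r hr]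
      · refine ⟨y * x, (P a).mul_mem hy hx, ?_, fun r hr => ?_, fun B hBx hBy r hr => ?_⟩
        · rw [Perm.mul_apply, ← Perm.mul_apply, h.comm hall hy hx, Perm.mul_apply, e]
          exact h3x
        · rw [Perm.mul_apply, h.fixed_of_not_moved hiy _ (h.P_mem_blk hx hr)]
        · rw [Perm.mul_apply, h.fixed_of_not_moved hBx r hr, h.fixed_of_not_moved hBy r hr]
    have hzI : i ∈ moved P a z := by
      obtain ⟨r, hr⟩ := exists_mem_blk i
      rw [← h.moved_point hall hz hr, hzi r hr]
      exact (h.moved_point hall hx hr).2 (by rw [ex]; simp)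
    have hsub : moved P a z ⊆ {i, l} := by
      intro B hB
      simp only [Finset.mem_insert, Finset.mem_singleton]
      by_contra hcon
      push Not at hcon
      by_cases hBj : B = j
      · subst hBj; exact (h.moved_point hall hz hq).2 hB hzq
      · obtain ⟨r, hr⟩ := exists_mem_blk B
        exact (h.moved_point hall hz hr).2 hB
          (hzo B (by rw [ex]; simp [hcon.1, hBj]) (by rw [ey]; simp [hcon.2, hBj]) r hr)
    refine ⟨z, hz, Finset.eq_of_subset_of_card_le hsub ?_⟩
    have hle : (moved P a z).card ≤ 2 := (Finset.card_le_card hsub).trans Finset.card_le_two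
    have h2 := weight z hz (fun e => by
      rw [e] at hzI
      exact (mem_moved.1 hzI) fun r _ => rfl) (by omega)
    rw [h2]
    exact Finset.card_le_two
  obtain ⟨m, hm⟩ := hcyc.exists_zpow_eq (hfree i₀) (hfree j₀)
  set τ := bHom h a (c ^ m) with hτ
  have hτm : τ = bHom h a c ^ m := map_zpow _ _ _
  have hτo : orderOf τ = 7 := by
    refine orderOf_eq_prime ?_ fun e => hij₀ ?_
    · rw [hτm, ← zpow_natCast, zpow_comm, zpow_natCast, ← hco, pow_orderOf_eq_one, one_zpow]
    · rw [← hm, ← hτm, e, Perm.one_apply]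
  obtain ⟨hτc, hτfree⟩ := seven_cycle (h.card_blk hall a) hτo
  have htransl : ∀ i j, R i j → R (τ i) (τ j) := by
    rintro i j (rfl | ⟨x, hx, e⟩)
    · exact Or.inl rfl
    · refine Or.inr ⟨_, h.conj_mem_self (c ^ m).2.1 (c ^ m).2.2 hx, ?_⟩
      ext B
      obtain ⟨B', rfl⟩ : ∃ B', τ B' = B := ⟨τ⁻¹ B, by simp⟩
      rw [hτ, h.moved_conj, e]
      simp [EmbeddingLike.apply_eq_iff_eq]
  have hstep : ∀ n : ℕ, R i₀ ((τ ^ n) i₀) := by
    have hn : ∀ n : ℕ, R ((τ ^ n) i₀) ((τ ^ (n + 1)) i₀) := by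
      intro n
      induction n with
      | zero =>
        right
        refine ⟨x₀, hx₀, ?_⟩
        rw [hmov₀, pow_zero, pow_one, Perm.one_apply, hτm, hm]
      | succ n ih =>
        have := htransl _ _ ih
        rwa [← Perm.mul_apply, ← Perm.mul_apply, ← pow_succ', ← pow_succ'] at this
    intro n
    induction n with
    | zero => exact Or.inl rfl
    | succ n ih => exact Rtrans _ _ _ ih (hn n)
  have hall' : ∀ i, R i₀ i := fun i => by
    obtain ⟨n, hn⟩ := hτc.exists_pow_eq (hτfree i₀) (hτfree i)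
    exact hn ▸ hstep n
  intro i j hij
  exact (Rtrans i i₀ j (Rsymm _ _ (hall' i)) (hall' j)).resolve_left hij

/-- The case of seven conjugate blocks is impossible. -/
theorem Cfg.false_of_seven (h : Cfg G P) (hall : AllThree P) {a : α} (hP : 3 < Nat.card (P a))
    (h7 : 7 ∣ Nat.card (stab G a)) : False := by
  classical
  haveI : Fact (Nat.Prime 7) := ⟨by norm_num⟩
  have hpair := h.exists_pair hall hP h7
  obtain ⟨c7, -, hc7o⟩ := h.exists_prime_elem hall (p := 7) (by norm_num) h7
  obtain ⟨-, hfree⟩ := seven_cycle (h.card_blk hall a) hc7o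
  obtain ⟨i, j, L, hij, hiL, hjL⟩ := Fintype.two_lt_card_iff.1
    (by rw [h.card_blk hall a]; norm_num : 2 < Fintype.card (Blk P a))
  obtain ⟨x, hx, ex⟩ := hpair i j hij
  obtain ⟨y, hy, ey⟩ := hpair i L hiL
  obtain ⟨b, hb⟩ := exists_mem_blk L
  have hxb : x b = b := h.fixed_of_not_moved (B := L)
    (by rw [ex]; simp [Ne.symm hiL, Ne.symm hjL]) b hb
  obtain ⟨c, hc, hcx, hcb⟩ := h.fixS_transitive (h.comm_fixed hall hx) hxb (h.fix a x hx)
  set Y : Finset α := Finset.univ.filter fun z => z ∈ i.1 ∨ z ∈ j.1 with hY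
  have hmemY : ∀ z, z ∈ Y ↔ z ∈ i.1 ∨ z ∈ j.1 := fun z => by simp [hY]
  have hYx : ∀ z, z ∈ Y ↔ x z ≠ z := by
    intro z
    rw [hmemY]
    constructor
    · rintro (hz | hz) <;> exact (h.moved_point hall hx hz).2 (by rw [ex]; simp)
    · intro hz
      have hza : z ≠ a := fun e => hz (by rw [e, h.fix a x hx])
      have hm := (h.moved_point hall hx (B := blk P hza) (q := z) (mem_orb_self P a z)).1 hz
      rw [ex, Finset.mem_insert, Finset.mem_singleton] at hm
      rcases hm with e | e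
      · left; rw [← e]; exact mem_orb_self P a z
      · right; rw [← e]; exact mem_orb_self P a z
  have haY : a ∉ Y := fun hm => (hYx a).1 hm (h.fix a x hx)
  have hYP : ∀ q ∈ P a, ∀ z ∈ Y, q z ∈ Y := by
    intro q hq z hz
    rw [hmemY] at hz ⊢
    exact hz.imp (h.P_mem_blk hq) (h.P_mem_blk hq)
  have hYpow : ∀ q ∈ P a, ∀ z ∈ Y, ∃ k : ℕ, q z = (x ^ k) z := by
    intro q hq z hz
    have hxz := (hYx z).1 hz
    have hza : z ≠ a := fun e => haY (e ▸ hz)
    set B := blk P hza
    have h3 : x (x (x z)) = z := Equiv.congr_fun (h.cube hall hx) z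
    have h2 : x (x z) ≠ z := fun e => hxz (by rw [e] at h3; exact h3)
    have hzB : z ∈ B.1 := mem_orb_self P a z
    have hsub : ({z, x z, x (x z)} : Finset α) ⊆ B.1.toFinite.toFinset := by
      simp [Set.insert_subset_iff, hzB, h.P_mem_blk hx hzB, h.P_mem_blk hx (h.P_mem_blk hx hzB)]
    have hthree : ({z, x z, x (x z)} : Finset α).card = 3 :=
      Finset.card_eq_three.2 ⟨z, x z, x (x z), fun e => hxz e.symm, fun e => h2 e.symm,
        fun e => hxz (x.injective e).symm, rfl⟩
    have heq := Finset.eq_of_subset_of_card_le hsub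
      (by rw [hthree, ← Set.ncard_eq_toFinset_card _ _, h.blk_ncard hall B])
    have hm : q z ∈ ({z, x z, x (x z)} : Finset α) := heq.symm ▸ by simpa using h.P_mem_blk hq hzB
    simp only [Finset.mem_insert, Finset.mem_singleton] at hm
    rcases hm with e | e | e
    · exact ⟨0, by simpa using e⟩
    · exact ⟨1, by simpa using e⟩
    · exact ⟨2, by rw [pow_two, Perm.mul_apply]; exact e⟩
  have hcxn : ∀ (k : ℕ) z, c ((x ^ k) z) = (x ^ k) (c z) := fun k z =>
    Equiv.congr_fun ((show Commute c x from hcx.symm).pow_right k).eq z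
  have hcY : ∀ z, c z ∈ Y ↔ z ∈ Y := by
    intro z
    rw [hYx, hYx, not_iff_not]
    have h1 := hcxn 1 z
    rw [pow_one] at h1
    rw [← h1]
    exact c.injective.eq_iff
  set p : Perm α := c * y * c⁻¹ with hpdef
  have hpG : p ∈ G := G.mul_mem (G.mul_mem hc (h.le a hy)) (G.inv_mem hc)
  have happ : ∀ z, p z = c (y (c⁻¹ z)) := fun z => rfl
  have hpY : ∀ z ∈ Y, ∃ k : ℕ, p z = (x ^ k) z := by
    intro z hz
    have hz' : c⁻¹ z ∈ Y := (hcY _).1 (by simpa using hz)
    obtain ⟨k, hk⟩ := hYpow y hy _ hz'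
    exact ⟨k, by rw [happ, hk, hcxn]; simp⟩
  have hxY : ∀ (k : ℕ), ∀ z ∈ Y, (x ^ k) z ∈ Y := fun k z hz => hYP _ ((P a).pow_mem hx k) z hz
  have hpYmem : ∀ z ∈ Y, p z ∈ Y := by
    intro z hz
    obtain ⟨k, hk⟩ := hpY z hz
    rw [hk]; exact hxY k z hz
  have hpx : ∀ (l : ℕ) z, p ((x ^ l) z) = (x ^ l) (p z) := by
    intro l z
    have h1 : Commute p x := by
      have hyx : Commute y x := h.comm hall hy hx
      have hcx' : Commute c x := hcx.symm
      exact (hcx'.mul_left hyx).mul_left hcx'.inv_left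
    exact Equiv.congr_fun (h1.pow_right l).eq z
  have hpcomm : ∀ q ∈ P a, ∀ z ∈ Y, p (q z) = q (p z) := by
    intro q hq z hz
    obtain ⟨l, hl⟩ := hYpow q hq z hz
    obtain ⟨k, hk⟩ := hpY z hz
    have h1 : q ((x ^ k) z) = (x ^ k) (q z) :=
      Equiv.congr_fun ((show Commute q x from h.comm hall hq hx).pow_right k).eq z
    rw [hl, hpx, hk, h1, hl, ← Perm.mul_apply, ← Perm.mul_apply, ← pow_add, ← pow_add, add_comm]
  -- the points moved by `p` outside `Y`
  have hpout : ∀ z, z ∉ Y → (p z ≠ z ↔ c⁻¹ z ∈ L.1) := by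
    intro z hz
    have hz' : c⁻¹ z ∉ Y := fun hm => hz (by simpa using (hcY _).2 hm)
    rw [happ]
    constructor
    · intro hne
      have hyne : y (c⁻¹ z) ≠ c⁻¹ z := fun e => hne (by rw [e]; simp)
      have hza : c⁻¹ z ≠ a := fun e => hyne (by rw [e, h.fix a y hy])
      have hm := (h.moved_point hall hy (B := blk P hza) (q := c⁻¹ z) (mem_orb_self P a _)).1 hyne
      rw [ey, Finset.mem_insert, Finset.mem_singleton] at hm
      rcases hm with e | e
      · exact absurd ((hmemY _).2 (Or.inl (e ▸ mem_orb_self P a _))) hz'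
      · exact e ▸ mem_orb_self P a _
    · intro hm hfix
      refine (h.moved_point hall hy hm).2 (by rw [ey]; simp) ?_
      apply c.injective
      rw [hfix]; simp
  have hLY : ∀ z ∈ L.1, z ∉ Y := fun z hz hm =>
    (hYx z).1 hm (h.fixed_of_not_moved (B := L) (by rw [ex]; simp [Ne.symm hiL, Ne.symm hjL]) z hz)
  obtain ⟨u, v, hu, hv, hua, hva, huv, hF⟩ : ∃ u v, c⁻¹ u ∈ L.1 ∧ c⁻¹ v ∈ L.1 ∧ u ≠ a ∧ v ≠ a ∧ u ≠ v ∧
      ∀ z, c⁻¹ z ∈ L.1 → z = a ∨ z = u ∨ z = v := by
    have hy1 := h.P_mem_blk hy hb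
    have hy2 := h.P_mem_blk hy hy1
    have hyb : y b ≠ b := (h.moved_point hall hy hb).2 (by rw [ey]; simp)
    have h3 : y (y (y b)) = b := Equiv.congr_fun (h.cube hall hy) b
    have h2 : y (y b) ≠ b := fun e => hyb (by rw [e] at h3; exact h3)
    refine ⟨c (y b), c (y (y b)), by simpa using hy1, by simpa using hy2, ?_, ?_, ?_, ?_⟩
    · rw [← hcb]; exact fun e => hyb (c.injective e)
    · rw [← hcb]; exact fun e => h2 (c.injective e)
    · exact fun e => hyb (y.injective (c.injective e)).symm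
    · intro z hz
      have hsub : ({b, y b, y (y b)} : Finset α) ⊆ L.1.toFinite.toFinset := by
        simp [Set.insert_subset_iff, hb, hy1, hy2]
      have hthree : ({b, y b, y (y b)} : Finset α).card = 3 :=
        Finset.card_eq_three.2 ⟨b, y b, y (y b), fun e => hyb e.symm, fun e => h2 e.symm,
          fun e => hyb (y.injective e).symm, rfl⟩
      have heq := Finset.eq_of_subset_of_card_le hsub
        (by rw [hthree, ← Set.ncard_eq_toFinset_card _ _, h.blk_ncard hall L])
      have hm : c⁻¹ z ∈ ({b, y b, y (y b)} : Finset α) := heq.symm ▸ by simpa using hz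
      simp only [Finset.mem_insert, Finset.mem_singleton, Perm.inv_eq_iff_eq] at hm
      rwa [hcb] at hm
  have hout : ∀ z, c⁻¹ z ∈ L.1 → z ∉ Y := fun z hz hm => hLY _ hz ((hcY _).1 (by simpa using hm))
  set M := blk P hua with hM
  have huM : u ∈ M.1 := mem_orb_self P a u
  have hMi : M ≠ i ∧ M ≠ j :=
    ⟨fun e => hout u hu ((hmemY u).2 (Or.inl (e ▸ huM))), fun e => hout u hu ((hmemY u).2 (Or.inr (e ▸ huM)))⟩
  obtain ⟨q, hq, eq'⟩ := hpair i M hMi.1.symm
  have hqout : ∀ z, z ∉ Y → (q z ≠ z ↔ z ∈ M.1) := by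
    intro z hz
    constructor
    · intro hne
      have hza : z ≠ a := fun e => hne (by rw [e, h.fix a q hq])
      have hm := (h.moved_point hall hq (B := blk P hza) (q := z) (mem_orb_self P a z)).1 hne
      rw [eq', Finset.mem_insert, Finset.mem_singleton] at hm
      rcases hm with e | e
      · exact absurd ((hmemY z).2 (Or.inl (e ▸ mem_orb_self P a z))) hz
      · exact e ▸ mem_orb_self P a z
    · intro hm
      exact (h.moved_point hall hq hm).2 (by rw [eq']; simp)
  have hpu : p u ≠ u := (hpout u (hout u hu)).2 hu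
  have hqu : q u ≠ u := (hqout u (hout u hu)).2 huM
  by_cases hvM : v ∈ M.1
  swap
  · refine h.one_common hpG (h.le a hq) Y (hpcomm q hq) hpYmem (hYP q hq) (hout u hu) hpu hqu ?_
    intro z hz hpz hqz
    rcases hF z ((hpout z hz).1 hpz) with e | e | e
    · exact absurd ((hqout z hz).1 hqz) (fun hm => h.ne_of_mem_blk hm e)
    · exact e
    · exact absurd (e ▸ (hqout z hz).1 hqz) hvM
  -- both points in the same block
  set e := p * q * p⁻¹ * q⁻¹ with he
  have heG : e ∈ G := G.mul_mem (G.mul_mem (G.mul_mem hpG (h.le a hq)) (G.inv_mem hpG)) (G.inv_mem (h.le a hq))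
  set T : Finset α := insert a (Finset.univ.filter fun z => z ∈ M.1) with hT
  have hmemT : ∀ z, z ∈ T ↔ z = a ∨ z ∈ M.1 := fun z => by simp [hT]
  have hTcard : T.card = 4 := by
    rw [hT, Finset.card_insert_of_notMem (by simpa using fun hm => h.ne_of_mem_blk hm rfl)]
    have : (Finset.univ.filter fun z => z ∈ M.1).card = 3 := by
      rw [← h.blk_ncard hall M, Set.ncard_eq_toFinset_card']
      congr 1
      ext z; simp
    rw [this]
  have hfixout : ∀ z, z ∉ Y → z ∉ T → p z = z ∧ q z = z := by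
    intro z hz hzT
    rw [hmemT, not_or] at hzT
    refine ⟨?_, ?_⟩
    · by_contra hne
      rcases hF z ((hpout z hz).1 hne) with r | r | r
      · exact hzT.1 r
      · exact hzT.2 (r ▸ huM)
      · exact hzT.2 (r ▸ hvM)
    · by_contra hne
      exact hzT.2 ((hqout z hz).1 hne)
  have hsub : e.support ⊆ T := by
    intro w hw
    by_contra hwT
    apply mem_support.1 hw
    rw [he, Perm.mul_apply, Perm.mul_apply, Perm.mul_apply]
    by_cases hwY : w ∈ Y
    · obtain ⟨z, hz, rfl⟩ : ∃ z ∈ Y, q (p z) = w := by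
        have himg : Y.image (q * p) = Y := Finset.eq_of_subset_of_card_le
          (Finset.image_subset_iff.2 fun z hz => hYP q hq _ (hpYmem z hz))
          (by rw [Finset.card_image_of_injective _ (q * p).injective])
        obtain ⟨z, hz, hzw⟩ := Finset.mem_image.1 (himg.symm ▸ hwY : w ∈ Y.image (q * p))
        exact ⟨z, hz, hzw⟩
      simp [hpcomm q hq z hz]
    · obtain ⟨h1, h2⟩ := hfixout w hwY hwT
      rw [Perm.inv_eq_iff_eq.2 h2.symm, Perm.inv_eq_iff_eq.2 h1.symm, h2, h1]
  have he1 : e ≠ 1 := by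
    intro e1
    have hcomm : ∀ z, p (q z) = q (p z) := fun z => by
      have : e (q (p z)) = p (q z) := by simp [he]
      rw [e1, Perm.one_apply] at this
      exact this.symm
    -- the third point of the block
    obtain ⟨z, hz, hzu, hzv⟩ : ∃ z ∈ M.1, z ≠ u ∧ z ≠ v := by
      by_contra hcon
      push Not at hcon
      have hle : M.1 ⊆ {u, v} := fun z hz => by
        by_cases hzu : z = u
        · exact Or.inl hzu
        · exact Or.inr (hcon z hz hzu)
      have h2 := Set.ncard_le_ncard hle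
      rw [h.blk_ncard hall M, Set.ncard_pair huv] at h2
      omega
    have hMY : ∀ r ∈ M.1, r ∉ Y := fun r hr hm => by
      rcases (hmemY r).1 hm with hm' | hm'
      · exact hMi.1 (blk_disjoint h hr hm')
      · exact hMi.2 (blk_disjoint h hr hm')
    have hza : z ≠ a := h.ne_of_mem_blk hz
    have hpz : p z = z := by
      by_contra hne
      rcases hF z ((hpout z (hMY z hz)).1 hne) with r | r | r
      exacts [hza r, hzu r, hzv r]
    have hqz : q z ≠ z := (hqout z (hMY z hz)).2 hz
    have hqzM : q z ∈ M.1 := h.P_mem_blk hq hz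
    have h1 := hcomm z
    rw [hpz] at h1
    have h2 := hpout (q z) (hMY _ hqzM)
    have h3 : c⁻¹ (q z) ∉ L.1 := fun hm => h2.2 hm h1
    have hy3 : q (q (q z)) = z := Equiv.congr_fun (h.cube hall hq) z
    -- `q z` is one of `u`, `v`
    have : q z = u ∨ q z = v := by
      have hsub : ({u, v, z} : Finset α) ⊆ M.1.toFinite.toFinset := by
        simp [Set.insert_subset_iff, huM, hvM, hz]
      have hthree : ({u, v, z} : Finset α).card = 3 :=
        Finset.card_eq_three.2 ⟨u, v, z, huv, hzu.symm, hzv.symm, rfl⟩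
      have heq := Finset.eq_of_subset_of_card_le hsub
        (by rw [hthree, ← Set.ncard_eq_toFinset_card _ _, h.blk_ncard hall M])
      have hm : q z ∈ ({u, v, z} : Finset α) := heq.symm ▸ by simpa using hqzM
      simp only [Finset.mem_insert, Finset.mem_singleton] at hm
      rcases hm with r | r | r
      exacts [Or.inl r, Or.inr r, absurd r hqz]
    rcases this with r | r
    · exact h3 (by rw [r]; exact hu)
    · exact h3 (by rw [r]; exact hv)
  have hsupp : e.support = T := by
    refine Finset.eq_of_subset_of_card_le hsub ?_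
    rw [hTcard]
    by_contra hlt
    exact he1 (h.eq_one_of_support heG (by omega))
  -- move the block
  set M' := bHom h a c7 M with hM'
  set f := (c7 : Perm α) * e * (c7 : Perm α)⁻¹ with hf
  have hfG : f ∈ G := G.mul_mem (G.mul_mem c7.2.1 heG) (G.inv_mem c7.2.1)
  have hmv : ∀ z, e z ≠ z ↔ z = a ∨ z ∈ M.1 := fun z => by rw [← mem_support, hsupp, hmemT]
  have hfmv : ∀ z, f z ≠ z ↔ z = a ∨ z ∈ M'.1 := by
    intro z
    have hsmall : f z ≠ z ↔ e ((c7 : Perm α)⁻¹ z) ≠ (c7 : Perm α)⁻¹ z := by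
      rw [hf, Perm.mul_apply, Perm.mul_apply, not_iff_not]
      exact ⟨fun hz => (c7 : Perm α).injective (hz.trans (by simp)), fun hz => by rw [hz]; simp⟩
    rw [hsmall, hmv, hM', bHom_apply, Perm.inv_eq_iff_eq, (mem_stab.1 c7.2).2]
    refine or_congr Iff.rfl ⟨fun hz => ⟨_, hz, by simp⟩, ?_⟩
    rintro ⟨r, hr, rfl⟩
    simpa using hr
  refine h.one_common heG hfG ∅ (by simp) (by simp) (by simp) (Finset.notMem_empty a)
    ((hmv a).2 (Or.inl rfl)) ((hfmv a).2 (Or.inl rfl)) ?_
  intro z _ hez hfz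
  rcases (hmv z).1 hez with r | r
  · exact r
  rcases (hfmv z).1 hfz with r' | r'
  · exact r'
  exact absurd (blk_disjoint h r' r) (hfree M)

/-- No configuration has all orbits of length three. -/
theorem Cfg.false_of_allThree_big (h : Cfg G P) (hall : AllThree P) {a o : α} {w : Perm α} (hwG : w ∈ G)
    (hoa : o ≠ a) (hww : w * w = 1) (hfw : fixS w = {a, o}) (hP : 3 < Nat.card (P a)) : False := by
  classical
  haveI : Fact (Nat.Prime 2) := ⟨Nat.prime_two⟩
  haveI : Fact (Nat.Prime 5) := ⟨by norm_num⟩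
  haveI : Fact (Nat.Prime 7) := ⟨by norm_num⟩
  have hwa : w a = a := show a ∈ fixS w by rw [hfw]; exact Or.inl rfl
  have hwo : w o = o := show o ∈ fixS w by rw [hfw]; exact Or.inr rfl
  set W : stab G a := ⟨w, hwG, hwa⟩
  set B₀ := blk P hoa with hB₀
  have hoB : o ∈ B₀.1 := mem_orb_self P a o
  set σ := bHom h a W with hσ
  have hw2 : w ^ 2 ^ 1 = 1 := by rw [pow_one, pow_two, hww]
  have hσfix : ∀ B, σ B = B → B = B₀ := by
    intro B hB
    set S := B.1.toFinite.toFinset with hS
    have hinv : ∀ z ∈ S, w z ∈ S := by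
      intro z hz
      rw [hS, Set.Finite.mem_toFinset] at hz ⊢
      have := bHom_blk h W hz
      rwa [← hσ, hB] at this
    have hm := card_fixed_modEq hw2 S hinv
    rw [hS, ← Set.ncard_eq_toFinset_card _ _, h.blk_ncard hall B] at hm
    obtain ⟨z, hz⟩ : (S.filter fun z => w z = z).Nonempty := by
      rw [← Finset.card_pos, hS]
      unfold Nat.ModEq at hm
      omega
    obtain ⟨hzS, hwz⟩ := Finset.mem_filter.1 hz
    rw [hS, Set.Finite.mem_toFinset] at hzS
    have hz2 : z ∈ fixS w := hwz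
    rw [hfw] at hz2
    rcases hz2 with r | r
    · exact absurd r (h.ne_of_mem_blk hzS)
    · exact blk_disjoint h (r ▸ hzS : o ∈ B.1) hoB
  set H := (bHom h a).range with hH
  set O := (MulAction.orbit H B₀).toFinite.toFinset with hO
  have hmemO : ∀ B, B ∈ O ↔ ∃ g : stab G a, bHom h a g B₀ = B := by
    intro B
    rw [hO, Set.Finite.mem_toFinset]
    constructor
    · rintro ⟨⟨_, g, rfl⟩, rfl⟩; exact ⟨g, rfl⟩
    · rintro ⟨g, rfl⟩; exact ⟨⟨_, g, rfl⟩, rfl⟩
  have hOinv : ∀ g : stab G a, ∀ B ∈ O, bHom h a g B ∈ O := by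
    intro g B hB
    obtain ⟨g', rfl⟩ := (hmemO B).1 hB
    exact (hmemO _).2 ⟨g * g', by rw [map_mul]; rfl⟩
  have hσB₀ : σ B₀ = B₀ := by
    have h1 := bHom_blk h W hoB
    simp only [W] at h1
    rw [hwo] at h1
    exact blk_disjoint h h1 hoB
  have hB₀O : B₀ ∈ O := (hmemO _).2 ⟨1, by rw [map_one]; rfl⟩
  have hσ2 : σ ^ 2 ^ 1 = 1 := by
    rw [hσ, ← map_pow, show W ^ 2 ^ 1 = 1 from Subtype.ext hw2, map_one]
  have hodd : O.card % 2 = 1 := by
    have hm := card_fixed_modEq hσ2 O (fun B hB => hOinv W B hB)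
    have he : (O.filter fun B => σ B = B) = {B₀} := by
      ext B
      rw [Finset.mem_filter, Finset.mem_singleton]
      exact ⟨fun hB => hσfix B hB.2, fun e => e ▸ ⟨hB₀O, hσB₀⟩⟩
    rw [he, Finset.card_singleton] at hm
    exact hm.symm
  have hdvd : O.card ∣ Nat.card H := by
    rw [hO, ← Set.ncard_eq_toFinset_card _ _, ← index_stabilizer]
    exact index_dvd_card _
  have hne1 : O.card ≠ 1 := by
    intro h1
    obtain ⟨B, hB⟩ := Finset.card_eq_one.1 h1
    refine absurd (h.card_P_eq_three hoa (hall a o hoa) fun g hg => ?_) (by omega)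
    have h2 := (hmemO (bHom h a ⟨g, hg⟩ B₀)).2 ⟨⟨g, hg⟩, rfl⟩
    rw [hB, Finset.mem_singleton] at h2
    rw [hB, Finset.mem_singleton] at hB₀O
    have h3 := bHom_blk h (⟨g, hg⟩ : stab G a) hoB
    rw [h2, ← hB₀O] at h3
    exact h3
  have hle : O.card ≤ 7 := h.card_blk hall a ▸ Finset.card_le_univ O
  have hd560 := hdvd.trans (h.range_dvd hall a)
  have hcase : O.card = 5 ∨ O.card = 7 := by
    generalize O.card = k at *
    interval_cases k <;> omega
  have hstab : O.card ∣ Nat.card (stab G a) := hdvd.trans (card_range_dvd _)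
  rcases hcase with h5 | h7
  · by_cases h7' : 7 ∣ Nat.card (stab G a)
    · exact h.false_of_seven hall hP h7'
    have hTc : Oᶜ.card = 2 := by rw [Finset.card_compl, h5, h.card_blk hall a]
    obtain ⟨B₁, B₂, h12, hT⟩ := Finset.card_eq_two.1 hTc
    refine h.false_of_five hall hP h12 ?_ (h5 ▸ hstab) h7'
    intro g B hB
    have hBO : B ∉ O := by
      rw [← Finset.mem_compl, hT]
      simpa using hB
    have hgO : bHom h a g B ∉ O := by
      intro hm
      apply hBO
      have := hOinv g⁻¹ _ hm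
      rwa [← Perm.mul_apply, ← map_mul, inv_mul_cancel, map_one, Perm.one_apply] at this
    rw [← Finset.mem_compl, hT] at hgO
    simpa using hgO
  · exact h.false_of_seven hall hP (h7 ▸ hstab)

end Cfsg.Lib.SolvStruct.TwentyTwo
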