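/-
No finite group has exactly 22 Sylow 3-subgroups: Sylow subgroups of order three.
-/
import Cfsg.Agent.SolvStruct.TwentyTwo.SevenBasics
import Cfsg.Agent.SolvStruct.TwentyTwo.Eleven

set_option linter.style.haveILetI false
set_option linter.unusedSectionVars false
set_option autoImplicit false

namespace Cfsg.Lib.SolvStruct.TwentyTwo

open Equiv Equiv.Perm MulAction Subgroup

universe u

variable {α : Type u} [Fintype α] [DecidableEq α] {G : Subgroup (Perm α)} {P : α → Subgroup (Perm α)}

theorem Cfg.generator (h : Cfg G P) {b : α} (hP : Nat.card (P b) = 3) :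
    ∃ x ∈ P b, x ≠ 1 ∧ x ^ 3 = 1 ∧ (∀ y ∈ P b, y ∈ zpowers x) ∧ ∀ q, q ≠ b → x q ≠ q := by
  haveI : Fact (Nat.Prime 3) := ⟨Nat.prime_three⟩
  obtain ⟨g, hg⟩ := exists_prime_orderOf_dvd_card' (G := P b) 3 hP.symm.dvd
  have ho : orderOf (g : Perm α) = 3 := by rw [Subgroup.orderOf_coe, hg]
  have heq : zpowers (g : Perm α) = P b :=
    Subgroup.eq_of_le_of_card_ge (zpowers_le.2 g.2) (by rw [Nat.card_zpowers, ho, hP])
  refine ⟨g, g.2, fun e => by rw [e, orderOf_one] at ho; omega, ho ▸ pow_orderOf_eq_one _,
    fun y hy => heq.symm ▸ hy, fun q hq hgq => ?_⟩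
  obtain ⟨y, hy, hyq⟩ := h.moves b q hq
  rw [← heq] at hy
  obtain ⟨i, rfl⟩ := hy
  exact hyq (zpow_apply_eq_self_of_apply_eq_self hgq i)

/-- In a block, the three points are the images of any one of them. -/
theorem Cfg.blk_eq_three (h : Cfg G P) (hall : AllThree P) {a : α} {x : Perm α} (hx : x ∈ P a)
    {B : Blk P a} {q : α} (hq : q ∈ B.1) (hxq : x q ≠ q) {r : α} (hr : r ∈ B.1) :
    r = q ∨ r = x q ∨ r = x (x q) := by
  have h3 : x (x (x q)) = q := Equiv.congr_fun (h.cube hall hx) q
  have h2 : x (x q) ≠ q := fun e => hxq (by rw [e] at h3; exact h3)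
  have hsub : ({q, x q, x (x q)} : Finset α) ⊆ B.1.toFinite.toFinset := by
    simp [Set.insert_subset_iff, hq, h.P_mem_blk hx hq, h.P_mem_blk hx (h.P_mem_blk hx hq)]
  have hthree : ({q, x q, x (x q)} : Finset α).card = 3 :=
    Finset.card_eq_three.2 ⟨q, x q, x (x q), fun e => hxq e.symm, fun e => h2 e.symm,
      fun e => hxq (x.injective e).symm, rfl⟩
  have heq := Finset.eq_of_subset_of_card_le hsub
    (by rw [hthree, ← Set.ncard_eq_toFinset_card _ _, h.blk_ncard hall B])
  have : r ∈ ({q, x q, x (x q)} : Finset α) := heq.symm ▸ by simpa using hr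
  simpa using this

/-- An element inverting the generator fixes exactly one point of an invariant block. -/
theorem Cfg.inverting_fix (h : Cfg G P) (hall : AllThree P) {a : α} {x g : Perm α} (hx : x ∈ P a)
    (hg : g * x * g⁻¹ = x⁻¹) {B : Blk P a} (hfree : ∀ q ∈ B.1, x q ≠ q) (hinv : ∀ q ∈ B.1, g q ∈ B.1) :
    ∃! q, q ∈ B.1 ∧ g q = q := by
  have hgx : ∀ q, g (x q) = x⁻¹ (g q) := fun q => by
    rw [← Perm.mul_apply, ← Perm.mul_apply, ← hg]; simp
  have huniq : ∀ q r, q ∈ B.1 → g q = q → r ∈ B.1 → g r = r → r = q := by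
    intro q r hq hgq hr hgr
    have h3 : x (x (x q)) = q := Equiv.congr_fun (h.cube hall hx) q
    have hi : x⁻¹ q = x (x q) := Perm.inv_eq_iff_eq.2 h3.symm
    rcases h.blk_eq_three hall hx hq (hfree q hq) hr with e | e | e
    · exact e
    · subst e
      rw [hgx, hgq, hi] at hgr
      exact absurd (x.injective hgr) (hfree q hq)
    · subst e
      rw [hgx, hgx, hgq, hi] at hgr
      have e2 : x⁻¹ (x (x q)) = x q := by simp
      rw [e2] at hgr
      exact absurd (x.injective hgr).symm (hfree q hq)
  obtain ⟨q, hq⟩ := exists_mem_blk B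
  have h3 : x (x (x q)) = q := Equiv.congr_fun (h.cube hall hx) q
  have hi : x⁻¹ q = x (x q) := Perm.inv_eq_iff_eq.2 h3.symm
  have hxq := h.P_mem_blk hx hq
  rcases h.blk_eq_three hall hx hq (hfree q hq) (hinv q hq) with e | e | e
  · exact ⟨q, ⟨hq, e⟩, fun r hr => huniq q r hq e hr.1 hr.2⟩
  · have hf : g (x (x q)) = x (x q) := by
      rw [hgx, hgx, e, show x⁻¹ (x q) = q by simp, hi]
    exact ⟨_, ⟨h.P_mem_blk hx hxq, hf⟩, fun r hr => huniq _ r (h.P_mem_blk hx hxq) hf hr.1 hr.2⟩
  · have hf : g (x q) = x q := by rw [hgx, e]; simp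
    exact ⟨_, ⟨hxq, hf⟩, fun r hr => huniq _ r hxq hf hr.1 hr.2⟩

/-- On a block, an element commuting with the generator is one of its powers. -/
theorem Cfg.commuting_blk (h : Cfg G P) (hall : AllThree P) {a : α} {x g : Perm α} (hx : x ∈ P a)
    (hcomm : g * x = x * g) {B : Blk P a} {q : α} (hq : q ∈ B.1) (hxq : x q ≠ q) (hgq : g q ∈ B.1) :
    g (g (g q)) = q := by
  have hc : ∀ z, g (x z) = x (g z) := fun z => Equiv.congr_fun hcomm z
  have h3 : x (x (x q)) = q := Equiv.congr_fun (h.cube hall hx) q
  rcases h.blk_eq_three hall hx hq hxq hgq with e | e | e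
  · rw [e, e, e]
  · rw [e, hc, e, hc, hc, e, h3]
  · have e1 : g (g q) = x q := by rw [e, hc, hc, e, h3]
    rw [e1, hc, e, h3]

theorem Cfg.conj_generator (h : Cfg G P) (hall : AllThree P) {b : α} {x : Perm α} (hx : x ∈ P b)
    (hx1 : x ≠ 1) (hgen : ∀ y ∈ P b, y ∈ zpowers x) {g : Perm α} (hg : g ∈ G) (hgb : g b = b) :
    g * x * g⁻¹ = x ∨ g * x * g⁻¹ = x⁻¹ := by
  obtain ⟨i, hi⟩ := hgen _ (h.conj_mem_self hg hgb hx)
  have hx3 := h.cube hall hx
  have hi' : x ^ i = g * x * g⁻¹ := hi
  have hmod : x ^ i = x ^ (i % 3) := by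
    conv_lhs => rw [← Int.emod_add_mul_ediv i 3]
    rw [zpow_add, zpow_mul, zpow_ofNat, hx3, one_zpow, mul_one]
  rw [hmod] at hi'
  rcases (by omega : i % 3 = 0 ∨ i % 3 = 1 ∨ i % 3 = 2) with e | e | e <;> rw [e] at hi'
  · exfalso
    apply hx1
    have := congrArg (fun y => g⁻¹ * y * g) hi'
    simpa [mul_assoc] using this.symm
  · left; simpa using hi'.symm
  · right
    rw [← hi', zpow_ofNat, eq_inv_iff_mul_eq_one, ← pow_succ, hx3]

/-- Sylow subgroups of order three with seven orbits are impossible. -/
theorem Cfg.false_of_card_three (h : Cfg G P) (hall : AllThree P) {a : α} (hP : Nat.card (P a) = 3) :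
    False := by
  haveI : Fact (Nat.Prime 3) := ⟨Nat.prime_three⟩
  haveI : Fact (Nat.Prime 2) := ⟨Nat.prime_two⟩
  obtain ⟨x, hx, hx1, hx3, hgen, hfree⟩ := h.generator hP
  have hfreeB : ∀ (B : Blk P a), ∀ q ∈ B.1, x q ≠ q := fun B q hq => hfree q (h.ne_of_mem_blk hq)
  -- the kernel on the blocks is `P a`
  have hker : ∀ g : stab G a, g ∈ (bHom h a).ker → (g : Perm α) ∈ P a := by
    classical
    intro g hg
    have hga : (g : Perm α) a = a := g.2.2
    have hB := (mem_ker_bHom h).1 hg
    rcases h.conj_generator hall hx hx1 hgen g.2.1 g.2.2 with e | e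
    · have hcomm : (g : Perm α) * x = x * g := by
        calc (g : Perm α) * x = ((g : Perm α) * x * (g : Perm α)⁻¹) * g := by group
          _ = x * g := by rw [e]
      refine h.mem_of_fix g.2.1 g.2.2 (k := 1) (Equiv.ext fun q => ?_)
      rw [pow_one, Perm.one_apply]
      show (g : Perm α) ((g : Perm α) ((g : Perm α) q)) = q
      by_cases hq : q = a
      · rw [hq, hga, hga, hga]
      · exact h.commuting_blk hall hx hcomm (mem_orb_self P a q : q ∈ (blk P hq).1) (hfree q hq)
          (hB (blk P hq) q (mem_orb_self P a q))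
    · exfalso
      set y : Perm α := (g : Perm α) * g with hy
      have hycomm : y * x = x * y := by
        have e2 : y * x * y⁻¹ = x := by
          calc y * x * y⁻¹ = MulAut.conj (g : Perm α) ((g : Perm α) * x * (g : Perm α)⁻¹) := by
                rw [MulAut.conj_apply, hy]; group
            _ = x := by rw [e, map_inv, MulAut.conj_apply, e, inv_inv]
        calc y * x = (y * x * y⁻¹) * y := by group
          _ = x * y := by rw [e2]
      have hgg : y = 1 := by
        ext q
        rw [Perm.one_apply]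
        by_cases hq : q = a
        · rw [hq, hy, Perm.mul_apply, hga, hga]
        · set B := blk P hq with hBdef
          obtain ⟨z, ⟨hz, hgz⟩, -⟩ := h.inverting_fix hall hx e (hfreeB B) (hB B)
          have hyz : y z = z := by rw [hy, Perm.mul_apply, hgz, hgz]
          rcases h.blk_eq_three hall hx hz (hfreeB B z hz) (mem_orb_self P a q : q ∈ B.1) with r | r | r
          · rw [r, hyz]
          · rw [r, ← Perm.mul_apply, hycomm, Perm.mul_apply, hyz]
          · rw [r, ← Perm.mul_apply, hycomm, Perm.mul_apply, ← Perm.mul_apply y x, hycomm,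
              Perm.mul_apply, hyz]
      have hfix := h.involution_fix g.2.1 hgg
      have hone : ∀ B : Blk P a, (Finset.univ.filter fun q => q ∈ B.1 ∧ (g : Perm α) q = q).card = 1 := by
        intro B
        classical
        obtain ⟨z, hz, huniq⟩ := h.inverting_fix hall hx e (hfreeB B) (hB B)
        rw [Finset.card_eq_one]
        refine ⟨z, Finset.ext fun q => ?_⟩
        simp only [Finset.mem_filter, Finset.mem_univ, true_and, Finset.mem_singleton]
        exact ⟨huniq q, fun e => e ▸ hz⟩
      classical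
      rw [h.fixS_count hga] at hfix
      rw [Finset.sum_congr rfl (fun B _ => (by convert hone B : _ = 1)), Finset.sum_const,
        Finset.card_univ, h.card_blk hall a] at hfix
      norm_num at hfix
  have hkcard : Nat.card (bHom h a).ker = 3 := by
    rw [← hP]
    refine Nat.card_congr ⟨fun g => ⟨_, hker g.1 g.2⟩, fun y => ⟨_, h.P_le_ker y.2⟩,
      fun g => rfl, fun y => rfl⟩
  have hcard : Nat.card (stab G a) = 3 * Nat.card (bHom h a).range := by
    rw [← hkcard, ← index_ker, Subgroup.card_mul_index]
  have hr : Nat.card (bHom h a).range = 4 ∨ Nat.card (bHom h a).range = 70 := by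
    have h11 := h.exists_involution.2 a
    rw [hcard] at h11
    have hm : Nat.card (bHom h a).range ∈ (Nat.divisors 560).filter fun k => 3 * k % 11 = 1 :=
      Finset.mem_filter.2 ⟨Nat.mem_divisors.2 ⟨h.range_dvd hall a, by norm_num⟩, h11⟩
    have hlist : ((Nat.divisors 560).filter fun k => 3 * k % 11 = 1) = {4, 70} := by decide +kernel
    rw [hlist] at hm
    simpa using hm
  rcases hr with hr | hr
  swap
  · exact not_five_seven (h.card_blk hall a) _ (h.range_dvd hall a) (by rw [hr]; norm_num)
      (by rw [hr]; norm_num)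
  rw [hr] at hcard
  -- an involution centralising `P a`
  set C := stab G a ⊓ centralizer ({x} : Set (Perm α)) with hC
  have h2C : 2 ∣ Nat.card C := by
    classical
    let F : stab G a → Perm α := fun g => (g : Perm α) * x * (g : Perm α)⁻¹
    have himg : ∀ g, F g = x ∨ F g = x⁻¹ := fun g => h.conj_generator hall hx hx1 hgen g.2.1 g.2.2
    have hmemC : ∀ g : stab G a, F g = x → (g : Perm α) ∈ C := fun g hg =>
      ⟨g.2, mem_centralizer_iff.2 fun y hy => by
        rw [Set.mem_singleton_iff.1 hy]
        calc x * (g : Perm α) = F g * g := by rw [hg]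
          _ = g * x := by simp [F]⟩
    have hCle : C ≤ stab G a := inf_le_left
    have hidx : C.relIndex (stab G a) ≤ 2 := by
      rw [relIndex, index]
      let Φ : stab G a ⧸ C.subgroupOf (stab G a) → ({x, x⁻¹} : Finset (Perm α)) :=
        Quotient.lift (fun g => ⟨F g, by simpa using himg g⟩) fun g g' hgg' => by
          have h1 : ((g : Perm α)⁻¹ * g') ∈ C := mem_subgroupOf.1 (QuotientGroup.leftRel_apply.1 hgg')
          have h2 : x * ((g : Perm α)⁻¹ * g') = ((g : Perm α)⁻¹ * g') * x :=
            mem_centralizer_iff.1 h1.2 x rfl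
          refine Subtype.ext ?_
          show (g : Perm α) * x * (g : Perm α)⁻¹ = (g' : Perm α) * x * (g' : Perm α)⁻¹
          have : (g' : Perm α) = g * ((g : Perm α)⁻¹ * g') := by group
          generalize ((g : Perm α)⁻¹ * g') = c at this h2
          rw [this, mul_assoc (g : Perm α) c x, ← h2]
          group
      have hΦ : Function.Injective Φ := by
        intro p q
        induction p using QuotientGroup.induction_on with | H g =>
        induction q using QuotientGroup.induction_on with | H g' =>
        intro e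
        have e' : F g = F g' := congrArg Subtype.val e
        refine QuotientGroup.eq.2 ?_
        refine mem_subgroupOf.2 ⟨(g⁻¹ * g').2, mem_centralizer_iff.2 fun y hy => ?_⟩
        rw [Set.mem_singleton_iff.1 hy]
        show x * ((g : Perm α)⁻¹ * g') = ((g : Perm α)⁻¹ * g') * x
        calc x * ((g : Perm α)⁻¹ * g') = (g : Perm α)⁻¹ * F g * g' := by simp [F, mul_assoc]
          _ = ((g : Perm α)⁻¹ * g') * x := by rw [e']; simp [F, mul_assoc]
      refine (Nat.card_le_card_of_injective Φ hΦ).trans ?_
      rw [Nat.card_eq_fintype_card, Fintype.card_coe]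
      exact Finset.card_le_two
    have hmul : Nat.card C * C.relIndex (stab G a) = 12 := by
      rw [← relIndex_bot_left, relIndex_mul_relIndex _ _ _ bot_le hCle, relIndex_bot_left, hcard]
    generalize C.relIndex (stab G a) = r at *
    generalize Nat.card C = n at *
    interval_cases r <;> omega
  obtain ⟨v, hv⟩ := exists_prime_orderOf_dvd_card' (G := C) 2 h2C
  have hvo : orderOf (v : Perm α) = 2 := by rw [Subgroup.orderOf_coe, hv]
  have hvv : (v : Perm α) * v = 1 := by rw [← pow_two, ← hvo, pow_orderOf_eq_one]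
  have hva : (v : Perm α) a = a := v.2.1.2
  have hvx : (v : Perm α) * x = x * v := (mem_centralizer_iff.1 v.2.2 x rfl).symm
  have hv1 : (v : Perm α) ≠ 1 := fun e => by rw [e, orderOf_one] at hvo; omega
  have hblock : ∀ B : Blk P a, ∀ q ∈ B.1, (v : Perm α) q ∈ B.1 → ∀ r ∈ B.1, (v : Perm α) r = r := by
    intro B q hq hvq
    have h3 := h.commuting_blk hall hx hvx hq (hfreeB B q hq) hvq
    have h2 : (v : Perm α) ((v : Perm α) q) = q := Equiv.congr_fun hvv q
    rw [h2] at h3
    intro r hr
    rcases h.blk_eq_three hall hx hq (hfreeB B q hq) hr with e | e | e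
    · rw [e, h3]
    · rw [e, ← Perm.mul_apply, hvx, Perm.mul_apply, h3]
    · rw [e, ← Perm.mul_apply, hvx, Perm.mul_apply, ← Perm.mul_apply (v : Perm α) x, hvx, Perm.mul_apply, h3]
  have h10 : (fixS (v : Perm α)).ncard = 10 := by
    classical
    have hfix := h.involution_fix v.2.1.1 hvv
    set s := Finset.univ.filter fun B : Blk P a => ∀ q ∈ B.1, (v : Perm α) q = q with hs
    have hcount : (fixS (v : Perm α)).ncard = 1 + 3 * s.card := by
      rw [h.fixS_count hva]
      congr 1
      rw [mul_comm, ← smul_eq_mul, ← Finset.sum_const, hs, Finset.sum_filter]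
      refine Finset.sum_congr rfl fun B _ => ?_
      split_ifs with hB
      · rw [← h.blk_ncard hall B, Set.ncard_eq_toFinset_card']
        congr 1
        ext q
        simpa using hB q
      · rw [Finset.card_eq_zero, Finset.filter_eq_empty_iff]
        exact fun q _ hq => hB (hblock B q hq.1 (hq.2.symm ▸ hq.1))
    have hs7 : s.card ≤ 7 := h.card_blk hall a ▸ Finset.card_le_univ s
    have hne : s.card ≠ 7 := by
      intro e
      apply hv1
      ext q
      rw [Perm.one_apply]
      by_cases hq : q = a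
      · rw [hq, hva]
      · have hu : s = Finset.univ := Finset.eq_univ_of_card _ (by rw [e, h.card_blk hall a])
        have hm : blk P hq ∈ s := hu.symm ▸ Finset.mem_univ _
        exact (Finset.mem_filter.1 hm).2 q (mem_orb_self P a q)
    omega
  have hcen : ∀ b, (v : Perm α) b = b → ∀ y ∈ P b, (v : Perm α) * y = y * v := by
    intro b hb y hy
    obtain ⟨z, hz, hz1, hz3, hgenz, hfreez⟩ := h.generator (b := b) (by rw [h.card_P b a, hP])
    rcases h.conj_generator hall hz hz1 hgenz v.2.1.1 hb with e | e
    · obtain ⟨i, rfl⟩ := hgenz y hy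
      refine ((?_ : Commute (v : Perm α) z).zpow_right i).eq
      show (v : Perm α) * z = z * v
      calc (v : Perm α) * z = ((v : Perm α) * z * (v : Perm α)⁻¹) * v := by group
        _ = z * v := by rw [e]
    · exfalso
      classical
      have hle : ∀ B : Blk P b, (Finset.univ.filter fun q => q ∈ B.1 ∧ (v : Perm α) q = q).card ≤ 1 := by
        intro B
        rw [Finset.card_le_one]
        intro q hq r hr
        simp only [Finset.mem_filter, Finset.mem_univ, true_and] at hq hr
        have hinv : ∀ t ∈ B.1, (v : Perm α) t ∈ B.1 := by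
          intro t ht
          rw [← h.orb_of_mem_blk hq.1]
          rw [← h.orb_of_mem_blk hq.1] at ht
          have h1 : (v : Perm α) t ∈ (v : Perm α) '' orb P b q := ⟨t, ht, rfl⟩
          rwa [h.orb_image v.2.1.1, hb, hq.2] at h1
        obtain ⟨w, -, huniq⟩ := h.inverting_fix hall hz e (fun t ht => hfreez t (h.ne_of_mem_blk ht)) hinv
        rw [huniq q hq, huniq r hr]
      have := h.fixS_count hb
      rw [h10] at this
      have hsum := Finset.sum_le_sum (s := (Finset.univ : Finset (Blk P b))) fun B _ => hle B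
      rw [Finset.sum_const, Finset.card_univ, h.card_blk hall b, smul_eq_mul] at hsum
      have hsum' : (∑ B : Blk P b, (Finset.univ.filter fun q => q ∈ B.1 ∧ (v : Perm α) q = q).card) ≤ 7 := by
        simpa using hsum
      have heq : (9 : ℕ) = ∑ B : Blk P b, (Finset.univ.filter fun q => q ∈ B.1 ∧ (v : Perm α) q = q).card := by
        have e9 : (10 : ℕ) = 1 + ∑ B : Blk P b, (Finset.univ.filter fun q => q ∈ B.1 ∧ (v : Perm α) q = q).card := by
          convert this using 3
        omega
      omega
  have := h.fixS_dvd hva hcen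
  rw [h10, h.card_G a, hcard] at this
  norm_num at this

end Cfsg.Lib.SolvStruct.TwentyTwo
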