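/-
No finite group has exactly 22 Sylow 3-subgroups.

The even permutations induced on the Sylow subgroups form a primitive group of degree 22 in
which the Sylow 3-subgroup of a point stabiliser fixes just that point.  Sylow 11-subgroups
give an involution with two fixed points, and the two possible orbit shapes (seven of length
three, or one of length nine and four of length three) are each contradictory.
-/
import Cfsg.Agent.SolvStruct.TwentyTwo.SevenThree
import Cfsg.Agent.SolvStruct.TwentyTwo.SevenBig
import Cfsg.Agent.SolvStruct.TwentyTwo.Nine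

set_option linter.style.haveILetI false
set_option linter.unusedSectionVars false
set_option autoImplicit false

namespace Cfsg.Lib.SolvStruct.TwentyTwo

open Equiv Equiv.Perm MulAction Subgroup
open scoped Pointwise

universe u

theorem Cfg.false {α : Type u} [Fintype α] [DecidableEq α] {G : Subgroup (Perm α)}
    {P : α → Subgroup (Perm α)} (h : Cfg G P) : False := by
  obtain ⟨⟨a, o, w, hwG, hoa, hww, hfw⟩, -⟩ := h.exists_involution
  by_cases hnine : ∃ b q, IsNine P b q
  · exact h.false_of_nine hnine hwG hoa hww hfw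
  have hall : AllThree P := fun b q hq =>
    (h.orb_card hq).resolve_right fun e => hnine ⟨b, q, hq, e⟩
  have h3 : 3 ≤ Nat.card (P a) := by
    have h1 := card_orbit_mul (P a) o
    rw [show MulAction.orbit (P a) o = orb P a o from rfl, hall a o hoa] at h1
    have : 0 < Nat.card (stab (P a) o) := Nat.card_pos
    omega
  rcases Nat.lt_or_ge 3 (Nat.card (P a)) with hlt | hge
  · exact h.false_of_allThree_big hall hwG hoa hww hfw hlt
  · exact h.false_of_card_three hall (a := a) (by omega)

/-- No finite group has exactly 22 Sylow 3-subgroups. -/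
theorem card_sylow_ne {G : Type u} [Group G] [Finite G] : Nat.card (Sylow 3 G) ≠ 22 := by
  classical
  intro h22
  haveI h3 : Fact (Nat.Prime 3) := ⟨Nat.prime_three⟩
  haveI := Fintype.ofFinite (Sylow 3 G)
  set φ := MulAction.toPermHom G (Sylow 3 G) with hφ
  have happ : ∀ (g : G) (Q : Sylow 3 G), φ g Q = g • Q := fun _ _ => rfl
  set H : Subgroup (Perm (Sylow 3 G)) := φ.range ⊓ alternatingGroup (Sylow 3 G) with hH
  set P : Sylow 3 G → Subgroup (Perm (Sylow 3 G)) := fun Q => (Q : Subgroup G).map φ with hP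
  have hpg : ∀ Q, IsPGroup 3 (P Q) := fun Q => Q.2.map _
  have hle : ∀ Q, P Q ≤ H := by
    intro Q x hx
    obtain ⟨k, hk⟩ := hpg Q ⟨x, hx⟩
    refine ⟨map_le_range _ _ hx, Equiv.Perm.mem_alternatingGroup.2 ?_⟩
    have hk' : x ^ 3 ^ k = 1 := congrArg Subtype.val hk
    have h1 := congrArg Equiv.Perm.sign hk'
    rw [map_pow, map_one] at h1
    rcases Int.units_eq_one_or (Equiv.Perm.sign x) with h2 | h2
    · exact h2
    · rw [h2, (Odd.pow (by decide) : Odd (3 ^ k)).neg_one_pow] at h1
      exact absurd h1 (by decide)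
  have hmoves : ∀ Q R : Sylow 3 G, R ≠ Q → ∃ g ∈ P Q, g R ≠ R := by
    intro Q R hRQ
    by_contra hc
    push Not at hc
    apply hRQ
    have h1 : (Q : Subgroup G) ≤ normalizer ((R : Subgroup G) : Set G) := fun g hg =>
      Sylow.smul_eq_iff_mem_normalizer.1 ((happ g R).symm.trans (hc _ (mem_map_of_mem φ hg)))
    have h2 := IsPGroup.inf_normalizer_sylow Q.2 R
    have h4 : ((Q : Subgroup G)) ⊓ normalizer ((R : Subgroup G) : Set G) = Q := inf_eq_left.2 h1
    have h5 : (Q : Subgroup G) = (Q : Subgroup G) ⊓ (R : Subgroup G) := h4.symm.trans h2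
    exact Sylow.ext (Q.3 R.2 (h5.le.trans inf_le_right))
  have hfix : ∀ Q, ∀ g ∈ P Q, g Q = Q := by
    rintro Q _ ⟨g, hg, rfl⟩
    exact (happ g Q).trans (Sylow.smul_eq_iff_mem_normalizer.2 (le_normalizer hg))
  have htrans : ∀ a b : Sylow 3 G, ∃ g ∈ H, g a = b := by
    intro a b
    by_contra hcon
    push Not at hcon
    have key : ∀ c, Nat.card (MulAction.orbit H a) ≡
        Nat.card (MulAction.fixedPoints ((P c).subgroupOf H) (MulAction.orbit H a)) [MOD 3] := fun c =>
      ((hpg c).comap_subtype).card_modEq_card_fixedPoints _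
    have h1 : MulAction.fixedPoints ((P a).subgroupOf H) (MulAction.orbit H a) =
        {⟨a, MulAction.mem_orbit_self a⟩} := by
      ext ⟨z, hz⟩
      rw [Set.mem_singleton_iff, MulAction.mem_fixedPoints]
      constructor
      · intro hfixed
        refine Subtype.ext ?_
        by_contra hza
        obtain ⟨g, hg, hgz⟩ := hmoves a z hza
        exact hgz (congrArg Subtype.val (hfixed ⟨⟨g, hle a hg⟩, hg⟩))
      · intro e g
        obtain rfl : z = a := congrArg Subtype.val e
        exact Subtype.ext (hfix z _ g.2)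
    have h2 : MulAction.fixedPoints ((P b).subgroupOf H) (MulAction.orbit H a) = ∅ := by
      refine Set.eq_empty_iff_forall_notMem.2 ?_
      rintro ⟨z, ⟨g, hgz⟩⟩ hfixed
      have hgz' : (g : Perm (Sylow 3 G)) a = z := hgz
      have hzb : z ≠ b := fun e => hcon g g.2 (hgz'.trans e)
      obtain ⟨x, hx, hxz⟩ := hmoves b z hzb
      exact hxz (congrArg Subtype.val (hfixed ⟨⟨x, hle b hx⟩, hx⟩))
    have ka := key a
    have kb := key b
    rw [h1] at ka
    rw [h2] at kb
    simp only [Nat.card_coe_set_eq, Set.ncard_singleton, Set.ncard_empty, Nat.ModEq] at ka kb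
    omega
  have hsyl : ∀ Q, ¬ 3 ∣ (P Q).relIndex H := by
    intro Q hd
    have h1 : (P Q).relIndex φ.range = ((Q : Subgroup G) ⊔ φ.ker).index := by
      have e1 := relIndex_mul_index (map_le_range φ (Q : Subgroup G))
      rw [index_map] at e1
      exact Nat.eq_of_mul_eq_mul_right (Nat.pos_of_ne_zero index_ne_zero_of_finite) e1
    have h2 : (P Q).relIndex H ∣ (P Q).relIndex φ.range :=
      Dvd.intro _ (relIndex_mul_relIndex (P Q) H φ.range (hle Q) inf_le_left)
    rw [h1] at h2
    exact Q.not_dvd_index (hd.trans (h2.trans (index_dvd_of_le le_sup_left)))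
  refine Cfg.false (G := H) (P := P) ⟨?_, fun g hg => Equiv.Perm.mem_alternatingGroup.1 hg.2, htrans,
    hle, hpg, hfix, hmoves, ?_, hsyl⟩
  · rw [← Nat.card_eq_fintype_card, h22]
  · rintro _ ⟨⟨x, rfl⟩, -⟩ Q _ ⟨s, hs, rfl⟩
    refine ⟨x * s * x⁻¹, ?_, by simp⟩
    have : (x • Q : Sylow 3 G) = φ x Q := rfl
    rw [← this, SetLike.mem_coe, Sylow.coe_subgroup_smul, Subgroup.mem_pointwise_smul_iff_inv_smul_mem]
    simpa [mul_assoc, SetLike.mem_coe] using (show s ∈ (Q : Subgroup G) from hs)

end Cfsg.Lib.SolvStruct.TwentyTwo
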