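/-
No finite group has exactly 22 Sylow 3-subgroups: an orbit of length nine, generalities.
-/
import Cfsg.Agent.SolvStruct.TwentyTwo.Blocks

set_option linter.style.haveILetI false
set_option linter.unusedSectionVars false
set_option autoImplicit false

namespace Cfsg.Lib.SolvStruct.TwentyTwo

open Equiv Equiv.Perm MulAction Subgroup
open scoped Pointwise

universe u

variable {α : Type u} [Fintype α] [DecidableEq α] {G : Subgroup (Perm α)} {P : α → Subgroup (Perm α)}

/-- `q` lies in an orbit of length nine of `P a`. -/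
def IsNine (P : α → Subgroup (Perm α)) (a q : α) : Prop := q ≠ a ∧ (orb P a q).ncard = 9

/-- `q` lies in an orbit of length three of `P a`. -/
def IsThree (P : α → Subgroup (Perm α)) (a q : α) : Prop := q ≠ a ∧ (orb P a q).ncard = 3

/-- The points off the orbit of length nine. -/
def threePts (P : α → Subgroup (Perm α)) (a : α) : Set α := {q | IsThree P a q}

theorem Cfg.three_or_nine (h : Cfg G P) {a q : α} (hq : q ≠ a) : IsThree P a q ∨ IsNine P a q :=
  (h.orb_card hq).imp (fun e => ⟨hq, e⟩) (fun e => ⟨hq, e⟩)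

theorem IsThree.not_nine {a q : α} (h3 : IsThree P a q) (h9 : IsNine P a q) : False := by
  have h1 := h3.2
  rw [h9.2] at h1
  omega

theorem Cfg.three_orb (h : Cfg G P) {a q r : α} (hq : IsThree P a q) (hr : r ∈ orb P a q) :
    IsThree P a r := ⟨h.ne_of_mem_orb hq.1 hr, by rw [orb_eq hr]; exact hq.2⟩

theorem Cfg.nine_orb (h : Cfg G P) {a q r : α} (hq : IsNine P a q) (hr : r ∈ orb P a q) :
    IsNine P a r := ⟨h.ne_of_mem_orb hq.1 hr, by rw [orb_eq hr]; exact hq.2⟩

theorem Cfg.three_map (h : Cfg G P) {a q : α} {g : Perm α} (hg : g ∈ G) (hq : IsThree P a q) :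
    IsThree P (g a) (g q) :=
  ⟨fun e => hq.1 (g.injective e),
    by rw [← h.orb_image hg, Set.ncard_image_of_injective _ g.injective]; exact hq.2⟩

theorem Cfg.nine_map (h : Cfg G P) {a q : α} {g : Perm α} (hg : g ∈ G) (hq : IsNine P a q) :
    IsNine P (g a) (g q) :=
  ⟨fun e => hq.1 (g.injective e),
    by rw [← h.orb_image hg, Set.ncard_image_of_injective _ g.injective]; exact hq.2⟩

theorem Cfg.exists_nine (h : Cfg G P) (hnine : ∃ b q, IsNine P b q) (a : α) : ∃ q, IsNine P a q := by
  obtain ⟨b, q, hq⟩ := hnine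
  obtain ⟨g, hg, hgb⟩ := h.trans b a
  exact ⟨g q, hgb ▸ h.nine_map hg hq⟩

/-- Only one orbit has length nine. -/
theorem Cfg.nine_unique (h : Cfg G P) {a q r : α} (hq : IsNine P a q) (hr : IsNine P a r) :
    r ∈ orb P a q := by
  classical
  by_contra hne
  set Bq := orb P a q
  set Br := orb P a r
  have hqr : Bq ≠ Br := fun e => hne (e.symm ▸ mem_orb_self P a r : r ∈ Bq)
  have hmq : Bq ∈ blocks P a := mem_blocks.2 ⟨q, hq.1, rfl⟩
  have hmr : Br ∈ blocks P a := mem_blocks.2 ⟨r, hr.1, rfl⟩
  set R := ((blocks P a).erase Bq).erase Br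
  have hmr' : Br ∈ (blocks P a).erase Bq := Finset.mem_erase.2 ⟨hqr.symm, hmr⟩
  have hsum : ∑ B ∈ R, B.ncard = 3 := by
    have h1 := h.sum_blocks a
    have f1 : Bq.ncard + ∑ B ∈ (blocks P a).erase Bq, B.ncard = ∑ B ∈ blocks P a, B.ncard :=
      Finset.add_sum_erase (blocks P a) (fun B => B.ncard) hmq
    have f2 : Br.ncard + ∑ B ∈ R, B.ncard = ∑ B ∈ (blocks P a).erase Bq, B.ncard :=
      Finset.add_sum_erase _ (fun B => B.ncard) hmr'
    have e1 : Bq.ncard = 9 := hq.2
    have e2 : Br.ncard = 9 := hr.2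
    omega
  obtain ⟨B, hB⟩ : R.Nonempty := by
    by_contra hc
    rw [Finset.not_nonempty_iff_eq_empty] at hc
    rw [hc, Finset.sum_empty] at hsum
    omega
  obtain ⟨t, ht, htB⟩ := mem_blocks.1 (Finset.mem_of_mem_erase (Finset.mem_of_mem_erase hB))
  have hle : B.ncard ≤ 3 := hsum ▸ Finset.single_le_sum (f := fun B : Set α => B.ncard) (fun _ _ => Nat.zero_le _) hB
  have ht3 : IsThree P a t := by
    rcases h.three_or_nine ht with e | e
    · exact e
    · exfalso; have := e.2; rw [htB] at this; omega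
  have hone : ∀ s, IsThree P a s → s ∈ orb P a t := by
    intro s hs
    by_contra hst
    have hsR : orb P a s ∈ R := by
      refine Finset.mem_erase.2 ⟨fun e => ?_, Finset.mem_erase.2 ⟨fun e => ?_, mem_blocks.2 ⟨s, hs.1, rfl⟩⟩⟩
      · have := hs.2; rw [e] at this; have e2 : Br.ncard = 9 := hr.2; omega
      · have := hs.2; rw [e] at this; have e2 : Bq.ncard = 9 := hq.2; omega
    have hne2 : B ≠ orb P a s := fun e => hst (htB ▸ e.symm ▸ mem_orb_self P a s)
    have h2 := Finset.sum_le_sum_of_subset (f := fun B : Set α => B.ncard)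
      (show ({B, orb P a s} : Finset (Set α)) ⊆ R by simp [Finset.insert_subset_iff, hB, hsR])
    rw [Finset.sum_pair hne2, hsum] at h2
    have e1 := hs.2
    have e2 : B.ncard = 3 := htB ▸ ht3.2
    omega
  have hP := h.card_P_eq_three ht ht3.2 (fun g hg => hone _ (by
    have := h.three_map hg.1 ht3
    rwa [(mem_stab.1 hg).2] at this))
  have h1 := card_orbit_mul (P a) q
  rw [show MulAction.orbit (P a) q = orb P a q from rfl, hq.2, hP] at h1
  omega

theorem Cfg.threePts_card (h : Cfg G P) {a q : α} (hq : IsNine P a q) :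
    (threePts P a).ncard = 12 := by
  have he : threePts P a = (insert a (orb P a q))ᶜ := by
    ext r
    constructor
    · intro hr hm
      rcases hm with e | e
      · exact hr.1 e
      · exact hr.not_nine (h.nine_orb hq e)
    · intro hr
      rw [Set.mem_compl_iff, Set.mem_insert_iff, not_or] at hr
      exact (h.three_or_nine hr.1).resolve_right fun e => hr.2 (h.nine_unique hq e)
  rw [he, Set.ncard_compl, Set.ncard_insert_of_notMem (h.self_notMem_orb hq.1), hq.2,
    Nat.card_eq_fintype_card, h.card]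

/-- The elements of `P a` fixing every point of the orbits of length three. -/
def ker3 (P : α → Subgroup (Perm α)) (a : α) : Subgroup (Perm α) :=
  P a ⊓ fixingSubgroup (Perm α) (threePts P a)

theorem mem_ker3 {a : α} {x : Perm α} : x ∈ ker3 P a ↔ x ∈ P a ∧ ∀ r, IsThree P a r → x r = r := by
  rw [ker3, mem_inf, mem_fixingSubgroup_iff]
  rfl

theorem Cfg.ker3_conj (h : Cfg G P) {a : α} {g : Perm α} (hg : g ∈ stab G a) {x : Perm α}
    (hx : x ∈ ker3 P a) : g * x * g⁻¹ ∈ ker3 P a := by
  rw [mem_ker3] at hx ⊢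
  refine ⟨h.conj_mem_self hg.1 hg.2 hx.1, fun r hr => ?_⟩
  have h1 := h.three_map (G.inv_mem hg.1) hr
  rw [(mem_stab.1 ((stab G a).inv_mem hg)).2] at h1
  rw [Perm.mul_apply, Perm.mul_apply, hx.2 _ h1]
  simp

/-- The kernel on the orbits of length three is trivial. -/
theorem Cfg.ker3_eq_bot (h : Cfg G P) {a q : α} (hq : IsNine P a q) : ker3 P a = ⊥ := by
  classical
  haveI : Fact (Nat.Prime 3) := ⟨Nat.prime_three⟩
  obtain ⟨b, hb⟩ : ∃ b, IsThree P a b := by
    by_contra hc
    push Not at hc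
    have h1 := h.threePts_card hq
    have h2 : threePts P a = ∅ := Set.eq_empty_iff_forall_notMem.2 fun r hr => hc r hr
    rw [h2, Set.ncard_empty] at h1
    omega
  by_cases htr : ∃ b, IsThree P a b ∧ ∀ r ∈ orb P a q, ∃ g ∈ stab (P a) b, g q = r
  · obtain ⟨b, hb, hbt⟩ := htr
    have hbq : q ≠ b := fun e => hb.not_nine (e ▸ hq)
    have hsub : orb P a q ⊆ orb P b q := fun r hr => by
      obtain ⟨g, hg, hgr⟩ := hbt r hr
      exact mem_orb.2 ⟨g, h.mem_P_of_fix hg.1 hg.2, hgr⟩
    have heq : orb P b q = orb P a q := by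
      refine (Set.eq_of_subset_of_ncard_le hsub ?_).symm
      rcases h.orb_card hbq with e | e <;> rw [e, hq.2]
      omega
    have hq' : IsNine P b q := ⟨hbq, by rw [heq]; exact hq.2⟩
    have hab : ker3 P a ≤ ker3 P b := by
      intro x hx
      rw [mem_ker3] at hx ⊢
      refine ⟨h.mem_P_of_fix hx.1 (hx.2 b hb), fun r hr => ?_⟩
      by_cases hra : r = a
      · rw [hra]; exact h.fix a x hx.1
      refine hx.2 r ((h.three_or_nine hra).resolve_right fun e => ?_)
      have h1 := h.nine_unique hq e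
      rw [← heq] at h1
      exact hr.not_nine (h.nine_orb hq' h1)
    have hba : ker3 P b ≤ ker3 P a := by
      intro x hx
      rw [mem_ker3] at hx ⊢
      have ha : IsThree P b a := (h.three_or_nine (Ne.symm hb.1)).resolve_right fun e => by
        have h1 := h.nine_unique hq' e
        rw [heq] at h1
        exact h.self_notMem_orb hq.1 h1
      refine ⟨h.mem_P_of_fix hx.1 (hx.2 a ha), fun r hr => ?_⟩
      by_cases hrb : r = b
      · rw [hrb]; exact h.fix b x hx.1
      refine hx.2 r ((h.three_or_nine hrb).resolve_right fun e => ?_)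
      have h1 := h.nine_unique hq' e
      rw [heq] at h1
      exact hr.not_nine (h.nine_orb hq h1)
    exact h.core_of_normalised hb.1 inf_le_left (fun g hg x hx => h.ker3_conj hg hx)
      (fun g hg x hx => hba (h.ker3_conj (h.P_le_stab b hg) (hab hx)))
  · push Not at htr
    by_contra hne
    set K := ker3 P a with hK
    have hKP : K ≤ P a := inf_le_left
    set Δ := MulAction.orbit K q with hΔ
    have hKfix : ∀ c, IsThree P a c → K ≤ stab (P a) c := fun c hc x hx =>
      ⟨hKP hx, (mem_ker3.1 hx).2 c hc⟩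
    have horbsub : ∀ L : Subgroup (Perm α), L ≤ P a → MulAction.orbit L q ⊆ orb P a q := by
      rintro L hL _ ⟨g, rfl⟩
      exact mem_orb.2 ⟨g, hL g.2, rfl⟩
    have hKne : ∃ x ∈ K, x q ≠ q := by
      by_contra hc
      push Not at hc
      refine hne ((Subgroup.eq_bot_iff_forall _).2 fun x hx => Equiv.ext fun r => ?_)
      rw [Perm.one_apply]
      by_cases hra : r = a
      · rw [hra]; exact h.fix a x (hKP hx)
      rcases h.three_or_nine hra with e | e
      · exact (mem_ker3.1 hx).2 r e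
      obtain ⟨g, hg, rfl⟩ := mem_orb.1 (h.nine_unique hq e)
      have h1 := hc _ (h.ker3_conj (h.P_le_stab a ((P a).inv_mem hg)) hx)
      simp only [inv_inv, Perm.mul_apply, Perm.inv_eq_iff_eq] at h1
      exact h1
    have three : ∀ L : Subgroup (Perm α), L ≤ P a → K ≤ L → (∃ c, IsThree P a c ∧ L ≤ stab (P a) c) →
        (MulAction.orbit L q).ncard = 3 := by
      intro L hL hKL hLc
      obtain ⟨c, hc, hLc⟩ := hLc
      obtain ⟨n, hn⟩ := ((h.pgroup a).to_le hL).card_orbit q
      rw [Nat.card_coe_set_eq] at hn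
      have h9 : (MulAction.orbit L q).ncard ≤ 9 := hq.2 ▸ Set.ncard_le_ncard (horbsub L hL)
      have h9' : (MulAction.orbit L q).ncard ≠ 9 := by
        intro e
        obtain ⟨r, hr, hr'⟩ := htr c hc
        have h1 := Set.eq_of_subset_of_ncard_le (horbsub L hL) (by rw [e, hq.2])
        obtain ⟨g, hg⟩ := (h1.symm ▸ hr : r ∈ MulAction.orbit L q)
        exact hr' g (hLc g.2) hg
      have h1 : (MulAction.orbit L q).ncard ≠ 1 := by
        intro e
        obtain ⟨x, hx, hxq⟩ := hKne
        obtain ⟨z, hz⟩ := Set.ncard_eq_one.1 e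
        have e1 : x q ∈ MulAction.orbit L q := ⟨⟨x, hKL hx⟩, rfl⟩
        have e2 := MulAction.mem_orbit_self (M := L) q
        rw [hz, Set.mem_singleton_iff] at e1 e2
        exact hxq (e1.trans e2.symm)
      rw [hn] at h9 h9' h1 ⊢
      rcases n with _ | _ | _ | n
      · norm_num at h1
      · norm_num
      · norm_num at h9'
      · have : 3 ^ 3 ≤ 3 ^ (n + 1 + 1 + 1) := Nat.pow_le_pow_right (by norm_num) (by omega)
        omega
    have hΔc : Δ.ncard = 3 := three K hKP le_rfl ⟨b, hb, hKfix b hb⟩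
    set M := P a ⊓ MulAction.stabilizer (Perm α) Δ with hM
    have hQM : ∀ c, IsThree P a c → stab (P a) c ≤ M := by
      intro c hc g hg
      refine ⟨hg.1, ?_⟩
      have hsub : Δ ⊆ MulAction.orbit (stab (P a) c) q := by
        rintro _ ⟨x, rfl⟩
        exact ⟨⟨x, hKfix c hc x.2⟩, rfl⟩
      have he := Set.eq_of_subset_of_ncard_le hsub
        (((three (stab (P a) c) inf_le_left (hKfix c hc) ⟨c, hc, le_rfl⟩).trans hΔc.symm).le)
      refine (mem_stabilizer_set (G := Perm α)).2 ?_
      intro r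
      rw [he]
      constructor
      · intro hr
        have := MulAction.mem_orbit_of_mem_orbit (⟨g, hg⟩⁻¹ : stab (P a) c) hr
        simpa [Subgroup.smul_def] using this
      · intro hr
        exact MulAction.mem_orbit_of_mem_orbit (⟨g, hg⟩ : stab (P a) c) hr
    have hMne : M ≠ P a := by
      intro e
      have hfull : orb P a q ⊆ Δ := by
        intro r hr
        obtain ⟨g, hg, rfl⟩ := mem_orb.1 hr
        rw [← e] at hg
        exact (mem_stabilizer_set.1 hg.2 q).2 (MulAction.mem_orbit_self q)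
      have := Set.ncard_le_ncard hfull
      rw [hq.2, hΔc] at this
      omega
    have hQ3 : ∀ c, IsThree P a c → 3 * Nat.card (stab (P a) c) = Nat.card (P a) := fun c hc => by
      rw [← card_orbit_mul (P a) c, show MulAction.orbit (P a) c = orb P a c from rfl, hc.2]
    have hMeq : ∀ c, IsThree P a c → M = stab (P a) c := by
      intro c hc
      refine (Subgroup.eq_of_le_of_card_ge (hQM c hc) ?_).symm
      have h1 : Nat.card M ∣ Nat.card (P a) := card_dvd_of_le inf_le_left
      have h2 : Nat.card M ≠ Nat.card (P a) := fun e => hMne (Subgroup.eq_of_le_of_card_ge inf_le_left e.ge)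
      obtain ⟨n, hn⟩ := IsPGroup.iff_card.1 (h.pgroup a)
      obtain ⟨m, hmn, hm⟩ := (Nat.dvd_prime_pow Nat.prime_three).1 (hn ▸ h1)
      have hlt : m < n := lt_of_le_of_ne hmn fun e => h2 (by rw [hm, hn, e])
      have h3 : 3 * Nat.card M ≤ Nat.card (P a) := by
        rw [hm, hn, ← pow_succ']
        exact Nat.pow_le_pow_right (by norm_num) hlt
      have := hQ3 c hc
      omega
    have hMK : stab (P a) b ≤ K := by
      intro x hx
      rw [hK, mem_ker3]
      refine ⟨hx.1, fun c hc => ?_⟩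
      rw [← hMeq b hb, hMeq c hc] at hx
      exact hx.2
    have hKb : K ≤ P b := fun x hx => h.mem_P_of_fix (hKP hx) ((mem_ker3.1 hx).2 b hb)
    have hn : (K.subgroupOf (P b)).Normal := by
      refine normal_of_index_eq_minFac_card ?_
      have hKc : 3 * Nat.card K = Nat.card (P b) := by
        rw [h.card_P b a, le_antisymm (hKfix b hb) hMK, hQ3 b hb]
      have h1 := relIndex_mul_relIndex (⊥ : Subgroup (Perm α)) K (P b) bot_le hKb
      rw [relIndex_bot_left, relIndex_bot_left, ← hKc, mul_comm] at h1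
      have h2 : (K.subgroupOf (P b)).index = 3 := Nat.eq_of_mul_eq_mul_right Nat.card_pos h1
      obtain ⟨m, hm⟩ := IsPGroup.iff_card.mp (h.pgroup b)
      rw [h2, hm, Nat.pow_minFac, Nat.prime_three.minFac_eq]
      intro h0
      rw [← hKc, h0] at hm
      omega
    exact hne (h.core_of_normalised hb.1 hKP (fun g hg x hx => h.ker3_conj hg hx)
      (fun g hg x hx => hn.conj_mem ⟨x, hKb hx⟩ hx ⟨g, hg⟩))

theorem Cfg.eq_of_threes (h : Cfg G P) {a q : α} (hq : IsNine P a q) {x y : Perm α} (hx : x ∈ P a)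
    (hy : y ∈ P a) (he : ∀ r, IsThree P a r → x r = y r) : x = y := by
  have h1 : y⁻¹ * x ∈ ker3 P a := mem_ker3.2 ⟨(P a).mul_mem ((P a).inv_mem hy) hx,
    fun r hr => by rw [Perm.mul_apply, he r hr]; simp⟩
  rw [h.ker3_eq_bot hq, mem_bot, inv_mul_eq_one] at h1
  exact h1.symm

theorem Cfg.nine_comm (h : Cfg G P) {a q : α} (hq : IsNine P a q) {x y : Perm α} (hx : x ∈ P a)
    (hy : y ∈ P a) : x * y = y * x :=
  h.eq_of_threes hq ((P a).mul_mem hx hy) ((P a).mul_mem hy hx) fun _ hr => h.three_comm hr.2 hx hy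

theorem Cfg.nine_cube (h : Cfg G P) {a q : α} (hq : IsNine P a q) {x : Perm α} (hx : x ∈ P a) :
    x ^ 3 = 1 :=
  h.eq_of_threes hq ((P a).pow_mem hx 3) (P a).one_mem fun r hr => by
    rw [h.three_cube hr.2 hx, Perm.one_apply]

/-- `P a` acts regularly on its orbit of length nine. -/
theorem Cfg.nine_regular (h : Cfg G P) {a q : α} (hq : IsNine P a q) :
    Nat.card (P a) = 9 ∧ ∀ x ∈ P a, ∀ r, IsNine P a r → x r = r → x = 1 := by
  have hQfix : ∀ x ∈ stab (P a) q, ∀ r ∈ orb P a q, x r = r := by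
    intro x hx r hr
    obtain ⟨g, hg, rfl⟩ := mem_orb.1 hr
    rw [← Perm.mul_apply, h.nine_comm hq hx.1 hg, Perm.mul_apply, (mem_stab.1 hx).2]
  have hbot : stab (P a) q = ⊥ := by
    refine h.core_of_normalised hq.1 inf_le_left (fun g hg x hx => ⟨h.conj_mem_self hg.1 hg.2 hx.1, ?_⟩) ?_
    · show (g * x * g⁻¹) q = q
      have h1 := h.nine_map (G.inv_mem hg.1) hq
      rw [(mem_stab.1 ((stab G a).inv_mem hg)).2] at h1
      rw [Perm.mul_apply, Perm.mul_apply, hQfix x hx _ (h.nine_unique hq h1)]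
      simp
    · intro g hg x hx
      obtain ⟨r, hr⟩ := h.exists_nine ⟨a, q, hq⟩ q
      have h1 := h.nine_comm hr (h.mem_P_of_fix hx.1 hx.2) hg
      rw [← h1]
      simpa using hx
  constructor
  · rw [← card_orbit_mul (P a) q, hbot, card_bot, show MulAction.orbit (P a) q = orb P a q from rfl, hq.2]
  · intro x hx r hr hxr
    obtain ⟨g, hg, rfl⟩ := mem_orb.1 (h.nine_unique hq hr)
    rw [← Perm.mul_apply, h.nine_comm hq hx hg, Perm.mul_apply] at hxr
    have : x ∈ stab (P a) q := ⟨hx, g.injective hxr⟩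
    rwa [hbot, mem_bot] at this

end Cfsg.Lib.SolvStruct.TwentyTwo
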