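/-
No finite group has exactly 22 Sylow 3-subgroups: the case with an orbit of length nine.
-/
import Cfsg.Agent.SolvStruct.TwentyTwo.NineBasics
import Cfsg.Agent.SolvStruct.TwentyTwo.Eleven

set_option linter.style.haveILetI false
set_option linter.unusedSectionVars false
set_option autoImplicit false

namespace Cfsg.Lib.SolvStruct.TwentyTwo

open Equiv Equiv.Perm MulAction Subgroup

universe u

variable {α : Type u} [Fintype α] [DecidableEq α] {G : Subgroup (Perm α)} {P : α → Subgroup (Perm α)}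

/-- The stabiliser of two points. -/
def stab2 (G : Subgroup (Perm α)) (a o : α) : Subgroup (Perm α) := stab (stab G a) o

theorem mem_stab2 {a o : α} {g : Perm α} : g ∈ stab2 G a o ↔ (g ∈ G ∧ g a = a) ∧ g o = o := Iff.rfl

theorem inverse_of_two {β : Type*} [Group β] {w x : β} (hw : w * w = 1) : w * (w * x * w⁻¹) * w⁻¹ = x := by
  have : w⁻¹ = w := inv_eq_of_mul_eq_one_left hw
  rw [this]
  calc w * (w * x * w) * w = (w * w) * x * (w * w) := by group
    _ = x := by rw [hw, one_mul, mul_one]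

variable {a o : α} {w : Perm α}

/-- The data: an involution fixing exactly `a` and `o`, with `o` in the orbit of length nine. -/
structure Ax (G : Subgroup (Perm α)) (P : α → Subgroup (Perm α)) (a o : α) (w : Perm α) : Prop where
  mem : w ∈ G
  sq : w * w = 1
  fixa : w a = a
  fixo : w o = o
  only : ∀ z, w z = z → z = a ∨ z = o
  nine : IsNine P a o

theorem Cfg.invariant_orbit (h : Cfg G P) {z : α} (hx : Ax G P a o w) (hz : z ≠ a)
    (hwz : w z ∈ orb P a z) : o ∈ orb P a z := by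
  classical
  haveI : Fact (Nat.Prime 2) := ⟨Nat.prime_two⟩
  set S := (orb P a z).toFinite.toFinset with hS
  have hinv : ∀ r ∈ S, w r ∈ S := by
    intro r hr
    rw [hS, Set.Finite.mem_toFinset] at hr ⊢
    have h1 : w r ∈ w '' orb P a z := ⟨r, hr, rfl⟩
    rwa [h.orb_image hx.mem, hx.fixa, orb_eq hwz] at h1
  have hm := card_fixed_modEq (p := 2) (n := 1) (g := w) (by rw [pow_one, pow_two, hx.sq]) S hinv
  rw [hS, ← Set.ncard_eq_toFinset_card _ _] at hm
  obtain ⟨r, hr⟩ : (S.filter fun r => w r = r).Nonempty := by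
    rw [← Finset.card_pos, hS]
    unfold Nat.ModEq at hm
    rcases h.orb_card hz with e | e <;> omega
  obtain ⟨hrS, hwr⟩ := Finset.mem_filter.1 hr
  rw [hS, Set.Finite.mem_toFinset] at hrS
  rcases hx.only r hwr with e | e
  · exact absurd (e ▸ hrS) (h.self_notMem_orb hz)
  · exact e ▸ hrS

theorem Cfg.exists_ax (h : Cfg G P) (hnine : ∃ b q, IsNine P b q) (hwG : w ∈ G) (hoa : o ≠ a)
    (hww : w * w = 1) (hfw : fixS w = {a, o}) : Ax G P a o w ∧ Ax G P o a w := by
  classical
  haveI : Fact (Nat.Prime 2) := ⟨Nat.prime_two⟩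
  have hwa : w a = a := show a ∈ fixS w by rw [hfw]; exact Or.inl rfl
  have hwo : w o = o := show o ∈ fixS w by rw [hfw]; exact Or.inr rfl
  have main : ∀ b c, w b = b → (∀ z, w z = z → z = b ∨ z = c) → IsNine P b c := by
    intro b c hb honly
    obtain ⟨q, hq⟩ := h.exists_nine hnine b
    set S := (orb P b q).toFinite.toFinset with hS
    have hinv : ∀ r ∈ S, w r ∈ S := by
      intro r hr
      rw [hS, Set.Finite.mem_toFinset] at hr ⊢
      have h1 := h.nine_map hwG (h.nine_orb hq hr)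
      rw [hb] at h1
      exact h.nine_unique hq h1
    have hm := card_fixed_modEq (p := 2) (n := 1) (g := w) (by rw [pow_one, pow_two, hww]) S hinv
    rw [hS, ← Set.ncard_eq_toFinset_card _ _, hq.2] at hm
    obtain ⟨r, hr⟩ : (S.filter fun r => w r = r).Nonempty := by
      rw [← Finset.card_pos, hS]
      unfold Nat.ModEq at hm
      omega
    obtain ⟨hrS, hwr⟩ := Finset.mem_filter.1 hr
    rw [hS, Set.Finite.mem_toFinset] at hrS
    rcases honly r hwr with e | e
    · exact absurd (e ▸ hrS) (h.self_notMem_orb hq.1)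
    · exact e ▸ h.nine_orb hq hrS
  have honly : ∀ z, w z = z → z = a ∨ z = o := fun z hz => by
    have : z ∈ fixS w := hz
    rw [hfw] at this
    exact this
  exact ⟨⟨hwG, hww, hwa, hwo, honly, main a o hwa honly⟩,
    ⟨hwG, hww, hwo, hwa, fun z hz => (honly z hz).symm, main o a hwo fun z hz => (honly z hz).symm⟩⟩

theorem Cfg.ax_inverts (h : Cfg G P) (hx : Ax G P a o w) {x : Perm α} (hxP : x ∈ P a) :
    w * x * w⁻¹ = x⁻¹ := by
  set t := w * x * w⁻¹ with ht
  have htP : t ∈ P a := h.conj_mem_self hx.mem hx.fixa hxP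
  set y := x * t with hy
  have hyP : y ∈ P a := (P a).mul_mem hxP htP
  have hwy : w * y * w⁻¹ = y := by
    calc w * y * w⁻¹ = t * (w * (w * x * w⁻¹) * w⁻¹) := by rw [hy, ht]; group
      _ = t * x := by rw [inverse_of_two hx.sq]
      _ = y := h.nine_comm hx.nine htP hxP
  have hwy' : w (y o) = y o := by
    have := congrArg (fun g : Perm α => g (w o)) hwy
    simp only [Perm.mul_apply] at this
    rw [show w⁻¹ (w o) = o by simp, hx.fixo] at this
    exact this
  have hmem : y o ∈ orb P a o := mem_orb.2 ⟨y, hyP, rfl⟩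
  have hyo : y o = o := (hx.only _ hwy').resolve_left (h.ne_of_mem_orb hx.nine.1 hmem)
  have h1 := (h.nine_regular hx.nine).2 y hyP o hx.nine hyo
  exact eq_inv_of_mul_eq_one_right h1

theorem Cfg.stab2_nine (h : Cfg G P) (hx : Ax G P a o w) {g : Perm α} (hg : g ∈ stab2 G a o) {r : α}
    (hr : r ∈ orb P a o) : g r ∈ orb P a o := by
  obtain ⟨⟨hgG, hga⟩, -⟩ := mem_stab2.1 hg
  have h1 := h.nine_map hgG (h.nine_orb hx.nine hr)
  rw [hga] at h1
  exact h.nine_unique hx.nine h1

theorem Cfg.stab2_three (h : Cfg G P) {g : Perm α} (hg : g ∈ stab2 G a o) {r : α}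
    (hr : IsThree P a r) : IsThree P a (g r) := by
  obtain ⟨⟨hgG, hga⟩, -⟩ := mem_stab2.1 hg
  have h1 := h.three_map hgG hr
  rwa [hga] at h1

/-- An element of the two point stabiliser is determined by the points of the orbits of length three. -/
theorem Cfg.stab2_eq_one (h : Cfg G P) (hx : Ax G P a o w) {g : Perm α} (hg : g ∈ stab2 G a o)
    (hfix : ∀ r, IsThree P a r → g r = r) : g = 1 := by
  obtain ⟨⟨hgG, hga⟩, hgo⟩ := mem_stab2.1 hg
  ext r
  rw [Perm.one_apply]
  by_cases hra : r = a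
  · rw [hra, hga]
  rcases h.three_or_nine hra with e | e
  · exact hfix r e
  obtain ⟨x, hxP, rfl⟩ := mem_orb.1 (h.nine_unique hx.nine e)
  have h1 : g * x * g⁻¹ = x := by
    refine h.eq_of_threes hx.nine (h.conj_mem_self hgG hga hxP) hxP fun t ht => ?_
    have hgt : g⁻¹ t = t := Perm.inv_eq_iff_eq.2 (hfix t ht).symm
    rw [Perm.mul_apply, Perm.mul_apply, hgt, hfix _ (h.three_orb ht (mem_orb.2 ⟨x, hxP, rfl⟩))]
  calc g (x o) = (g * x * g⁻¹) (g o) := by simp
    _ = x o := by rw [h1, hgo]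

/-- The two point stabiliser is a 2-group of order 16. -/
theorem Cfg.stab2_card (h : Cfg G P) (hx : Ax G P a o w) :
    Nat.card (stab2 G a o) = 16 ∧ Nat.card (stab G a) = 144 := by
  classical
  have horb : MulAction.orbit (stab G a) o = orb P a o := by
    ext r
    constructor
    · rintro ⟨g, rfl⟩
      have h1 := h.nine_map g.2.1 hx.nine
      rw [(mem_stab.1 g.2).2] at h1
      exact h.nine_unique hx.nine h1
    · intro hr
      obtain ⟨g, hg, rfl⟩ := mem_orb.1 hr
      exact ⟨⟨g, h.P_le_stab a hg⟩, rfl⟩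
  have hmul : 9 * Nat.card (stab2 G a o) = Nat.card (stab G a) := by
    rw [← card_orbit_mul (stab G a) o, horb, hx.nine.2]; rfl
  have h2grp : ∀ {l : ℕ}, l.Prime → l ∣ Nat.card (stab2 G a o) → l = 2 := by
    intro l hl hdvd
    by_contra hl2
    haveI := Fact.mk hl
    obtain ⟨g, hg⟩ := exists_prime_orderOf_dvd_card' (G := stab2 G a o) l hdvd
    obtain ⟨⟨hgG, hga⟩, hgo⟩ := mem_stab2.1 g.2
    have hgl : (g : Perm α) ^ l ^ 1 = 1 := by
      rw [pow_one, ← hg, ← SubmonoidClass.coe_pow, pow_orderOf_eq_one, OneMemClass.coe_one]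
    have hg1 : (g : Perm α) ≠ 1 := by
      intro e
      have h1 : g = 1 := Subtype.ext e
      rw [h1, orderOf_one] at hg
      exact hl.ne_one hg.symm
    by_cases hl3 : l = 3
    · subst hl3
      exact hg1 ((h.nine_regular hx.nine).2 _ (h.mem_of_fix hgG hga hgl) o hx.nine hgo)
    have hl5 : 5 ≤ l := by
      rcases hl.eq_two_or_odd with e | e
      · exact absurd e hl2
      · have := hl.two_le; omega
    set S : Finset (Blk P a) := Finset.univ.filter fun B => ∃ r ∈ B.1, IsThree P a r with hS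
    have hmemS : ∀ {B : Blk P a}, B ∈ S → ∀ r ∈ B.1, IsThree P a r := by
      intro B hB r hr
      obtain ⟨t, ht, ht3⟩ := (Finset.mem_filter.1 hB).2
      exact h.three_orb ht3 (by rw [h.orb_of_mem_blk ht]; exact hr)
    have hBcard : ∀ {B : Blk P a}, B ∈ S → B.1.ncard = 3 := by
      intro B hB
      obtain ⟨t, ht, ht3⟩ := (Finset.mem_filter.1 hB).2
      rw [← h.orb_of_mem_blk ht]
      exact ht3.2
    have hS4 : S.card ≤ 4 := by
      have h1 : ∀ B ∈ S.image Subtype.val, (B : Set α).ncard = 3 := by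
        intro B hB
        obtain ⟨C, hC, rfl⟩ := Finset.mem_image.1 hB
        exact hBcard hC
      have hsub : S.image Subtype.val ⊆ (blocks P a).erase (orb P a o) := by
        intro B hB
        refine Finset.mem_erase.2 ⟨fun e => ?_, ?_⟩
        · have := h1 B hB
          rw [e, hx.nine.2] at this
          omega
        · obtain ⟨C, -, rfl⟩ := Finset.mem_image.1 hB
          exact C.2
      have hsum := Finset.sum_le_sum_of_subset (f := fun B : Set α => B.ncard) hsub
      rw [Finset.sum_congr rfl h1, Finset.sum_const, smul_eq_mul,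
        Finset.card_image_of_injective _ Subtype.val_injective] at hsum
      have hs := h.sum_blocks a
      have f1 : (orb P a o).ncard + ∑ B ∈ (blocks P a).erase (orb P a o), B.ncard =
          ∑ B ∈ blocks P a, B.ncard :=
        Finset.add_sum_erase (blocks P a) (fun B => B.ncard) (mem_blocks.2 ⟨o, hx.nine.1, rfl⟩)
      have := hx.nine.2
      omega
    set g' : stab G a := ⟨g, hgG, hga⟩
    set σ := bHom h a g' with hσ
    have hσl : σ ^ l ^ 1 = 1 := by
      rw [hσ, ← map_pow, show g' ^ l ^ 1 = 1 from Subtype.ext hgl, map_one]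
    have hSinv : ∀ B ∈ S, σ B ∈ S := by
      intro B hB
      obtain ⟨t, ht, ht3⟩ := (Finset.mem_filter.1 hB).2
      exact Finset.mem_filter.2 ⟨Finset.mem_univ _, _, bHom_blk h g' ht, h.stab2_three g.2 ht3⟩
    have hm := card_fixed_modEq hσl S hSinv
    have hle : (S.filter fun B => σ B = B).card ≤ S.card := Finset.card_filter_le _ _
    have heq : (S.filter fun B => σ B = B).card = S.card := by
      unfold Nat.ModEq at hm
      rw [Nat.mod_eq_of_lt (by omega), Nat.mod_eq_of_lt (by omega)] at hm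
      exact hm
    have hall := Finset.eq_of_subset_of_card_le (Finset.filter_subset (fun B => σ B = B) S) heq.ge
    refine hg1 (h.stab2_eq_one hx g.2 fun r hr => ?_)
    have hBS : blk P hr.1 ∈ S := Finset.mem_filter.2 ⟨Finset.mem_univ _, r, mem_orb_self P a r, hr⟩
    have hfixB : σ (blk P hr.1) = blk P hr.1 := by
      rw [← hall] at hBS
      exact (Finset.mem_filter.1 hBS).2
    refine three_pointwise (p := l) (n := 1) (by omega) hgl (hBcard hBS) (fun q hq => ?_) r
      (mem_orb_self P a r)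
    have h1 := bHom_blk h g' hq
    rwa [← hσ, hfixB] at h1
  have hpow := Nat.eq_prime_pow_of_unique_prime_dvd Nat.card_pos.ne' h2grp
  set k := (Nat.card (stab2 G a o)).primeFactorsList.length
  have hdvd : Nat.card (stab2 G a o) ∣ Nat.factorial 12 := by
    have hinv : ∀ g : stab2 G a o, ∀ r, IsThree P a ((g : Perm α) r) ↔ IsThree P a r := by
      intro g r
      refine ⟨fun hr => ?_, h.stab2_three g.2⟩
      have := h.stab2_three ((stab2 G a o).inv_mem g.2) hr
      simpa using this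
    let f : stab2 G a o →* Perm {r // r ∈ threePts P a} :=
      MonoidHom.mk' (fun g => (g : Perm α).subtypePerm (hinv g)) fun _ _ => Equiv.ext fun _ => rfl
    have hf : Function.Injective f := by
      rw [injective_iff_map_eq_one]
      intro g hg
      exact Subtype.ext (h.stab2_eq_one hx g.2 fun r hr =>
        congrArg Subtype.val (Equiv.congr_fun hg ⟨r, hr⟩))
    have h1 := Subgroup.card_dvd_of_injective f hf
    rwa [Nat.card_perm, Nat.card_coe_set_eq, h.threePts_card hx.nine] at h1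
  have hmod := h.exists_involution.2 a
  rw [← hmul, hpow] at hmod
  rw [hpow] at hdvd
  have hk : k = 4 := by
    have hk10 : k ≤ 10 := by
      by_contra hlt
      have h1 := (Nat.pow_dvd_pow 2 (show 11 ≤ k by omega)).trans hdvd
      revert h1
      decide +kernel
    interval_cases k <;> simp_all
  have h16 : Nat.card (stab2 G a o) = 16 := by rw [hpow, hk]; norm_num
  exact ⟨h16, by rw [← hmul, h16]⟩

/-- The structure of the two point stabiliser. -/
theorem Cfg.ax_structure (h : Cfg G P) (hx : Ax G P a o w) :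
    ∃ q₁ ∈ P a, ∃ q₂ ∈ P a, ∃ v ∈ stab2 G a o,
      (∀ r, IsThree P a r → (q₁ r = r ↔ q₂ r ≠ r)) ∧
      (∀ x ∈ P a, x ∈ closure {q₁, q₂}) ∧
      (∀ g ∈ stab2 G a o, (g * q₁ * g⁻¹ ∈ zpowers q₁ ∨ g * q₁ * g⁻¹ ∈ zpowers q₂) ∧
        (g * q₁ * g⁻¹ ∈ zpowers q₂ → g * q₂ * g⁻¹ ∈ zpowers q₁)) ∧
      (∃ τ ∈ stab2 G a o, τ * q₁ * τ⁻¹ ∈ zpowers q₂) ∧
      v ≠ 1 ∧ (∀ x ∈ P a, v * x = x * v) ∧ (fixS v).ncard = 10 ∧
      (∀ v' ∈ stab2 G a o, v' ≠ 1 → (∀ x ∈ P a, v' * x = x * v') → v' = v) := by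
  classical
  haveI : Fact (Nat.Prime 3) := ⟨Nat.prime_three⟩
  haveI : Fact (Nat.Prime 2) := ⟨Nat.prime_two⟩
  have hP9 := (h.nine_regular hx.nine).1
  have hQcard : ∀ b, IsThree P a b → Nat.card (stab (P a) b) = 3 := by
    intro b hb
    have h1 := card_orbit_mul (P a) b
    rw [show MulAction.orbit (P a) b = orb P a b from rfl, hb.2, hP9] at h1
    omega
  have hw3 : ∀ b, IsThree P a b → IsThree P a (w b) ∧ w b ∉ orb P a b ∧
      stab (P a) b ≤ stab (P a) (w b) := by
    intro b hb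
    refine ⟨?_, fun hm => ?_, fun x hxb => ⟨hxb.1, ?_⟩⟩
    · have h1 := h.three_map hx.mem hb
      rwa [hx.fixa] at h1
    · exact (h.three_orb hb (h.invariant_orbit hx hb.1 hm)).not_nine hx.nine
    · show x (w b) = w b
      have h1 := h.ax_inverts hx ((P a).inv_mem hxb.1)
      rw [inv_inv] at h1
      rw [← h1]
      have : x⁻¹ b = b := Perm.inv_eq_iff_eq.2 hxb.2.symm
      rw [Perm.mul_apply, Perm.mul_apply, show w⁻¹ (w b) = b by simp, this]
  obtain ⟨b₁, hb₁⟩ : ∃ b, IsThree P a b := by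
    by_contra hc
    push Not at hc
    have h1 := h.threePts_card hx.nine
    have h2 : threePts P a = ∅ := Set.eq_empty_iff_forall_notMem.2 fun r hr => hc r hr
    rw [h2, Set.ncard_empty] at h1
    omega
  obtain ⟨hwb₁, hwb₁', hQw₁⟩ := hw3 b₁ hb₁
  obtain ⟨b₂, hb₂, hb₂', hb₂''⟩ : ∃ b, IsThree P a b ∧ b ∉ orb P a b₁ ∧ b ∉ orb P a (w b₁) := by
    by_contra hc
    push Not at hc
    have hsub : threePts P a ⊆ orb P a b₁ ∪ orb P a (w b₁) := fun r hr => by
      by_cases h1 : r ∈ orb P a b₁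
      · exact Or.inl h1
      · exact Or.inr (hc r hr h1)
    have h1 := (Set.ncard_le_ncard hsub).trans (Set.ncard_union_le _ _)
    rw [h.threePts_card hx.nine, hb₁.2, hwb₁.2] at h1
    omega
  obtain ⟨hwb₂, hwb₂', hQw₂⟩ := hw3 b₂ hb₂
  have hall : ∀ r, IsThree P a r → (r ∈ orb P a b₁ ∨ r ∈ orb P a (w b₁)) ∨
      (r ∈ orb P a b₂ ∨ r ∈ orb P a (w b₂)) := by
    have hd : ∀ {c d : α}, d ∉ orb P a c → Disjoint (orb P a c) (orb P a d) := by
      intro c d hcd
      rw [Set.disjoint_left]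
      intro z hz hz'
      apply hcd
      rw [← orb_eq hz, orb_eq hz']
      exact mem_orb_self P a d
    have hw' : ∀ {c d : α}, c ∈ orb P a d → w c ∈ orb P a (w d) := by
      intro c d hcd
      have h1 : w c ∈ w '' orb P a d := ⟨c, hcd, rfl⟩
      rwa [h.orb_image hx.mem, hx.fixa] at h1
    have hww : ∀ z, w (w z) = z := fun z => Equiv.congr_fun hx.sq z
    have h13 : w b₂ ∉ orb P a b₁ := fun hm => hb₂'' (by have := hw' hm; rwa [hww] at this)
    have h14 : w b₂ ∉ orb P a (w b₁) := fun hm => hb₂' (by have := hw' hm; rwa [hww, hww] at this)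
    have hsub : (orb P a b₁ ∪ orb P a (w b₁)) ∪ (orb P a b₂ ∪ orb P a (w b₂)) ⊆ threePts P a := by
      rintro r ((hr | hr) | (hr | hr))
      exacts [h.three_orb hb₁ hr, h.three_orb hwb₁ hr, h.three_orb hb₂ hr, h.three_orb hwb₂ hr]
    have heq := Set.eq_of_subset_of_ncard_le hsub (by
      rw [h.threePts_card hx.nine, Set.ncard_union_eq, Set.ncard_union_eq (hd hwb₁'),
        Set.ncard_union_eq (hd hwb₂'), hb₁.2, hwb₁.2, hb₂.2, hwb₂.2]
      exact Set.disjoint_union_left.2 ⟨Set.disjoint_union_right.2 ⟨hd hb₂', hd h13⟩,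
        Set.disjoint_union_right.2 ⟨hd hb₂'', hd h14⟩⟩)
    intro r hr
    rw [← Set.mem_union, ← Set.mem_union, ← Set.mem_union, heq]
    exact hr
  have fix1 : ∀ x ∈ stab (P a) b₁, ∀ r, r ∈ orb P a b₁ ∨ r ∈ orb P a (w b₁) → x r = r := by
    intro x hxb r hr
    rcases hr with e | e
    · exact h.three_fix hb₁.2 hxb.1 hxb.2 e
    · exact h.three_fix hwb₁.2 hxb.1 (hQw₁ hxb).2 e
  have fix2 : ∀ x ∈ stab (P a) b₂, ∀ r, r ∈ orb P a b₂ ∨ r ∈ orb P a (w b₂) → x r = r := by
    intro x hxb r hr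
    rcases hr with e | e
    · exact h.three_fix hb₂.2 hxb.1 hxb.2 e
    · exact h.three_fix hwb₂.2 hxb.1 (hQw₂ hxb).2 e
  have hbot : ∀ x ∈ stab (P a) b₁, x ∈ stab (P a) b₂ → x = 1 := fun x h1 h2 =>
    h.eq_of_threes hx.nine h1.1 (P a).one_mem fun r hr => by
      rw [Perm.one_apply]
      exact (hall r hr).elim (fix1 x h1 r) (fix2 x h2 r)
  obtain ⟨q₁', hq₁o⟩ := exists_prime_orderOf_dvd_card' (G := stab (P a) b₁) 3 (hQcard b₁ hb₁).symm.dvd
  obtain ⟨q₂', hq₂o⟩ := exists_prime_orderOf_dvd_card' (G := stab (P a) b₂) 3 (hQcard b₂ hb₂).symm.dvd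
  set q₁ : Perm α := (q₁' : Perm α)
  set q₂ : Perm α := (q₂' : Perm α)
  have hq₁ : q₁ ∈ stab (P a) b₁ := q₁'.2
  have hq₂ : q₂ ∈ stab (P a) b₂ := q₂'.2
  have ho1 : orderOf q₁ = 3 := by rw [← hq₁o, Subgroup.orderOf_coe]
  have ho2 : orderOf q₂ = 3 := by rw [← hq₂o, Subgroup.orderOf_coe]
  have hz1 : zpowers q₁ = stab (P a) b₁ := Subgroup.eq_of_le_of_card_ge (zpowers_le.2 hq₁)
    (by rw [Nat.card_zpowers, ho1, hQcard b₁ hb₁])
  have hz2 : zpowers q₂ = stab (P a) b₂ := Subgroup.eq_of_le_of_card_ge (zpowers_le.2 hq₂)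
    (by rw [Nat.card_zpowers, ho2, hQcard b₂ hb₂])
  have hq₁ne : q₁ ≠ 1 := fun e => by rw [e, orderOf_one] at ho1; omega
  have hq₂ne : q₂ ≠ 1 := fun e => by rw [e, orderOf_one] at ho2; omega
  have move1 : ∀ r, r ∈ orb P a b₂ ∨ r ∈ orb P a (w b₂) → q₁ r ≠ r := by
    intro r hr hfix
    refine hq₁ne (hbot q₁ hq₁ ⟨hq₁.1, ?_⟩)
    show q₁ b₂ = b₂
    rcases hr with e | e
    · exact h.three_fix (q := r) (by rw [orb_eq e]; exact hb₂.2) hq₁.1 hfix
        (by rw [orb_eq e]; exact mem_orb_self P a b₂)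
    · have h1 : q₁ (w b₂) = w b₂ := h.three_fix (q := r) (by rw [orb_eq e]; exact hwb₂.2) hq₁.1 hfix
        (by rw [orb_eq e]; exact mem_orb_self P a _)
      have h2 := ((hw3 (w b₂) hwb₂).2.2 ⟨hq₁.1, h1⟩).2
      have hww : w (w b₂) = b₂ := Equiv.congr_fun hx.sq b₂
      rw [hww] at h2
      exact h2
  have move2 : ∀ r, r ∈ orb P a b₁ ∨ r ∈ orb P a (w b₁) → q₂ r ≠ r := by
    intro r hr hfix
    refine hq₂ne (hbot q₂ ⟨hq₂.1, ?_⟩ hq₂)
    show q₂ b₁ = b₁
    rcases hr with e | e
    · exact h.three_fix (q := r) (by rw [orb_eq e]; exact hb₁.2) hq₂.1 hfix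
        (by rw [orb_eq e]; exact mem_orb_self P a b₁)
    · have h1 : q₂ (w b₁) = w b₁ := h.three_fix (q := r) (by rw [orb_eq e]; exact hwb₁.2) hq₂.1 hfix
        (by rw [orb_eq e]; exact mem_orb_self P a _)
      have h2 := ((hw3 (w b₁) hwb₁).2.2 ⟨hq₂.1, h1⟩).2
      have hww : w (w b₁) = b₁ := Equiv.congr_fun hx.sq b₁
      rw [hww] at h2
      exact h2
  have hiff : ∀ r, IsThree P a r → (q₁ r = r ↔ q₂ r ≠ r) := by
    intro r hr
    rcases hall r hr with e | e
    · exact iff_of_true (fix1 q₁ hq₁ r e) (move2 r e)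
    · exact iff_of_false (move1 r e) (fun hne => hne (fix2 q₂ hq₂ r e))
  have hne12 : stab (P a) b₁ ≠ stab (P a) b₂ := fun e => hq₁ne (hbot q₁ hq₁ (e ▸ hq₁))
  have hgen : ∀ x ∈ P a, x ∈ closure ({q₁, q₂} : Set (Perm α)) := by
    have hle : closure ({q₁, q₂} : Set (Perm α)) ≤ P a := (closure_le _).2 (by
      rintro z (rfl | rfl)
      exacts [hq₁.1, hq₂.1])
    have h1 : stab (P a) b₁ ≤ closure ({q₁, q₂} : Set (Perm α)) :=
      hz1 ▸ zpowers_le.2 (subset_closure (Or.inl rfl))
    obtain ⟨n, hn⟩ := IsPGroup.iff_card.1 ((h.pgroup a).to_le hle)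
    have h9 : Nat.card (closure ({q₁, q₂} : Set (Perm α))) ∣ 9 := hP9 ▸ card_dvd_of_le hle
    have h3 : Nat.card (closure ({q₁, q₂} : Set (Perm α))) ≠ 3 := by
      intro e
      have heq := Subgroup.eq_of_le_of_card_ge h1 (by rw [e, hQcard b₁ hb₁])
      refine hq₂ne (hbot q₂ ?_ hq₂)
      rw [heq]; exact subset_closure (Or.inr rfl)
    have h4 : 3 ≤ Nat.card (closure ({q₁, q₂} : Set (Perm α))) :=
      hQcard b₁ hb₁ ▸ Nat.le_of_dvd Nat.card_pos (card_dvd_of_le h1)
    have h5 : n ≤ 2 := by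
      rw [hn, show (9 : ℕ) = 3 ^ 2 by norm_num] at h9
      exact (Nat.pow_dvd_pow_iff_le_right (by norm_num)).1 h9
    have hfull : closure ({q₁, q₂} : Set (Perm α)) = P a := by
      refine Subgroup.eq_of_le_of_card_ge hle ?_
      rw [hP9, hn]
      rw [hn] at h3 h4
      interval_cases n <;> simp_all
    intro x hxP
    rw [hfull]
    exact hxP
  have hperm : ∀ g ∈ stab2 G a o,
      (g * q₁ * g⁻¹ ∈ zpowers q₁ ∧ g * q₂ * g⁻¹ ∈ zpowers q₂) ∨
      (g * q₁ * g⁻¹ ∈ zpowers q₂ ∧ g * q₂ * g⁻¹ ∈ zpowers q₁) := by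
    intro g hg
    obtain ⟨⟨hgG, hga⟩, -⟩ := mem_stab2.1 hg
    have hc : ∀ {x : Perm α} {b : α}, x ∈ stab (P a) b → g * x * g⁻¹ ∈ stab (P a) (g b) := fun {x b} hxb =>
      ⟨h.conj_mem_self hgG hga hxb.1, show (g * x * g⁻¹) (g b) = g b by simp [(mem_stab.1 hxb).2]⟩
    have hcls : ∀ b, IsThree P a b → stab (P a) b = stab (P a) b₁ ∨ stab (P a) b = stab (P a) b₂ := by
      intro b hb
      rcases hall b hb with e | e
      · left
        exact (show stab (P a) b₁ = stab (P a) b from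
          Subgroup.eq_of_le_of_card_ge (fun x hxb => ⟨hxb.1, fix1 x hxb b e⟩)
            (by rw [hQcard b hb, hQcard b₁ hb₁])).symm
      · right
        exact (show stab (P a) b₂ = stab (P a) b from
          Subgroup.eq_of_le_of_card_ge (fun x hxb => ⟨hxb.1, fix2 x hxb b e⟩)
            (by rw [hQcard b hb, hQcard b₂ hb₂])).symm
    have hsame : ∀ b, (g * q₁ * g⁻¹ ∈ stab (P a) b ∧ g * q₂ * g⁻¹ ∈ stab (P a) b) →
        IsThree P a b → False := by
      rintro b ⟨h1, h2⟩ hb
      have hle : closure ({q₁, q₂} : Set (Perm α)) ≤ (stab (P a) b).comap (MulAut.conj g).toMonoidHom :=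
        (closure_le _).2 (by rintro z (rfl | rfl) <;> assumption)
      have hb' : stab (P a) b = P a := by
        refine le_antisymm inf_le_left fun x hxP => ?_
        have hxg : g⁻¹ * x * g⁻¹⁻¹ ∈ P a :=
          h.conj_mem_self (G.inv_mem hgG) (Perm.inv_eq_iff_eq.2 hga.symm) hxP
        have := hle (hgen _ hxg)
        rw [mem_comap] at this
        simpa [mul_assoc] using this
      have := hQcard b hb
      rw [hb', hP9] at this
      omega
    have h1 := hc hq₁
    have h2 := hc hq₂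
    rcases hcls _ (h.stab2_three hg hb₁) with e | e <;> rcases hcls _ (h.stab2_three hg hb₂) with e' | e'
    · exact absurd ⟨e ▸ h1, e' ▸ h2⟩ fun hh => hsame b₁ hh hb₁
    · left; rw [hz1, hz2]; exact ⟨e ▸ h1, e' ▸ h2⟩
    · right; rw [hz1, hz2]; exact ⟨e ▸ h1, e' ▸ h2⟩
    · exact absurd ⟨e ▸ h1, e' ▸ h2⟩ fun hh => hsame b₂ hh hb₂
  -- the centraliser of `P a`
  have hVfix : ∀ v ∈ stab2 G a o, (∀ x ∈ P a, v * x = x * v) → ∀ r ∈ orb P a o, v r = r := by
    intro v hv hc r hr
    obtain ⟨x, hxP, rfl⟩ := mem_orb.1 hr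
    rw [← Perm.mul_apply, hc x hxP, Perm.mul_apply, (mem_stab2.1 hv).2]
  have hL2 : IsPGroup 2 (stab2 G a o) := IsPGroup.of_card (n := 4) (by rw [(h.stab2_card hx).1]; norm_num)
  have hVblock : ∀ v ∈ stab2 G a o, (∀ x ∈ P a, v * x = x * v) → ∀ r, IsThree P a r →
      v r ∈ orb P a r → ∀ s ∈ orb P a r, v s = s := by
    intro v hv hc r hr hvr s hs
    obtain ⟨x, hxP, hxr⟩ := mem_orb.1 hvr
    have hpow : ∀ n : ℕ, (v ^ n) r = (x ^ n) r := by
      intro n
      induction n with
      | zero => simp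
      | succ n ih =>
        rw [pow_succ', Perm.mul_apply, ih, ← Perm.mul_apply, hc _ ((P a).pow_mem hxP n), Perm.mul_apply,
          ← hxr, ← Perm.mul_apply, ← pow_succ]
    obtain ⟨n, hn⟩ := hL2 ⟨v, hv⟩
    have hn' : v ^ 2 ^ n = 1 := congrArg Subtype.val hn
    have hx2 : (x ^ 2 ^ n) r = r := by rw [← hpow, hn', Perm.one_apply]
    have hx3 : x ^ 3 = 1 := h.nine_cube hx.nine hxP
    have hxfix : x r = r := by
      rcases (by
        have : 2 ^ n % 3 = 1 ∨ 2 ^ n % 3 = 2 := by
          clear hn hn' hx2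
          induction n with
          | zero => simp
          | succ n ih => rw [pow_succ, Nat.mul_mod]; omega
        exact this : 2 ^ n % 3 = 1 ∨ 2 ^ n % 3 = 2) with e | e
      · rw [pow_eq_pow_mod _ hx3, e, pow_one] at hx2
        exact hx2
      · rw [pow_eq_pow_mod _ hx3, e] at hx2
        have h4 : x ((x ^ 2) r) = r := by
          rw [← Perm.mul_apply, ← pow_succ', hx3, Perm.one_apply]
        rw [hx2] at h4
        exact h4
    obtain ⟨y, hyP, rfl⟩ := mem_orb.1 hs
    rw [← Perm.mul_apply, hc y hyP, Perm.mul_apply, ← hxr, hxfix]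
  have hVside : ∀ v ∈ stab2 G a o, (∀ x ∈ P a, v * x = x * v) → ∀ r,
      r ∈ orb P a b₁ ∨ r ∈ orb P a (w b₁) → v r ∈ orb P a b₁ ∨ v r ∈ orb P a (w b₁) := by
    intro v hv hc r hr
    have hr3 : IsThree P a r := by
      rcases hr with e | e
      exacts [h.three_orb hb₁ e, h.three_orb hwb₁ e]
    have h1 : q₁ (v r) = v r := by
      rw [← Perm.mul_apply, ← hc q₁ hq₁.1, Perm.mul_apply, fix1 q₁ hq₁ r hr]
    rcases hall _ (h.stab2_three hv hr3) with e | e
    · exact e
    · exact absurd h1 (move1 _ e)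
  have hVside2 : ∀ v ∈ stab2 G a o, (∀ x ∈ P a, v * x = x * v) → ∀ r,
      r ∈ orb P a b₂ ∨ r ∈ orb P a (w b₂) → v r ∈ orb P a b₂ ∨ v r ∈ orb P a (w b₂) := by
    intro v hv hc r hr
    have hr3 : IsThree P a r := by
      rcases hr with e | e
      exacts [h.three_orb hb₂ e, h.three_orb hwb₂ e]
    have h1 : q₂ (v r) = v r := by
      rw [← Perm.mul_apply, ← hc q₂ hq₂.1, Perm.mul_apply, fix2 q₂ hq₂ r hr]
    rcases hall _ (h.stab2_three hv hr3) with e | e
    · exact absurd h1 (move2 _ e)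
    · exact e
  -- a pair of orbits is either fixed pointwise or interchanged
  have pair : ∀ v ∈ stab2 G a o, (∀ x ∈ P a, v * x = x * v) → ∀ c, IsThree P a c →
      (∀ r, r ∈ orb P a c ∨ r ∈ orb P a (w c) → v r ∈ orb P a c ∨ v r ∈ orb P a (w c)) →
      w c ∉ orb P a c →
      (∀ r, r ∈ orb P a c ∨ r ∈ orb P a (w c) → v r = r) ∨
      ((∀ r ∈ orb P a c, v r ∈ orb P a (w c)) ∧ (∀ r ∈ orb P a (w c), v r ∈ orb P a c)) := by
    intro v hv hc c hc3 hside hcw
    obtain ⟨⟨hvG, hva⟩, -⟩ := mem_stab2.1 hv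
    have himg : ∀ d r, r ∈ orb P a d → v r ∈ orb P a (v d) := by
      intro d r hr
      have h1 : v r ∈ v '' orb P a d := ⟨r, hr, rfl⟩
      rwa [h.orb_image hvG, hva] at h1
    have hwc3 := (hw3 c hc3).1
    rcases hside c (Or.inl (mem_orb_self P a c)) with e | e
    · left
      have hfc := hVblock v hv hc c hc3 e
      rcases hside (w c) (Or.inr (mem_orb_self P a _)) with e' | e'
      · exfalso
        apply hcw
        have h1 : v (v (w c)) = v (w c) := hfc _ e'
        rw [v.injective h1] at e'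
        exact e'
      · rintro r (hr | hr)
        exacts [hfc r hr, hVblock v hv hc (w c) hwc3 e' r hr]
    · right
      have e2 : v (w c) ∈ orb P a c := by
        rcases hside (w c) (Or.inr (mem_orb_self P a _)) with e' | e'
        · exact e'
        · exfalso
          have hfw := hVblock v hv hc (w c) hwc3 e'
          have h1 : v (v c) = v c := hfw _ e
          rw [v.injective h1] at e
          exact hcw ((orb_eq e).symm ▸ mem_orb_self P a (w c))
      exact ⟨fun r hr => orb_eq e ▸ himg c r hr, fun r hr => orb_eq e2 ▸ himg (w c) r hr⟩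
  have hsq : ∀ v ∈ stab2 G a o, (∀ x ∈ P a, v * x = x * v) → v ≠ 1 →
      v * v = 1 ∧ (fixS v).ncard = 10 ∧
        (∀ r ∈ orb P a b₁, v r ∈ orb P a (w b₁)) ∧ (∀ r ∈ orb P a b₂, v r ∈ orb P a (w b₂)) ∧
        (∀ r ∈ orb P a (w b₁), v r ∈ orb P a b₁) ∧ (∀ r ∈ orb P a (w b₂), v r ∈ orb P a b₂) := by
    intro v hv hc hv1
    have p1 := pair v hv hc b₁ hb₁ (hVside v hv hc) hwb₁'
    have p2 := pair v hv hc b₂ hb₂ (hVside2 v hv hc) hwb₂'
    have hvv : v * v = 1 := by
      refine h.stab2_eq_one hx ((stab2 G a o).mul_mem hv hv) fun r hr => ?_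
      have hcc : ∀ x ∈ P a, (v * v) * x = x * (v * v) := fun x hxP =>
        ((show Commute v x from hc x hxP).mul_left (hc x hxP)).eq
      refine hVblock _ ((stab2 G a o).mul_mem hv hv) hcc r hr ?_ r (mem_orb_self P a r)
      rw [Perm.mul_apply]
      rcases hall r hr with e | e
      · rcases p1 with f | ⟨f, f'⟩
        · rw [f r e, f r e]; exact mem_orb_self P a r
        · rcases e with e | e <;> rw [orb_eq e]
          exacts [f' _ (f r e), f _ (f' r e)]
      · rcases p2 with f | ⟨f, f'⟩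
        · rw [f r e, f r e]; exact mem_orb_self P a r
        · rcases e with e | e <;> rw [orb_eq e]
          exacts [f' _ (f r e), f _ (f' r e)]
    have h4 := h.involution_fix (mem_stab2.1 hv).1.1 hvv
    have horb : ((insert a (orb P a o)) : Set α).ncard = 10 := by
      rw [Set.ncard_insert_of_notMem (h.self_notMem_orb hx.nine.1), hx.nine.2]
    have hbase : insert a (orb P a o) ⊆ fixS v := by
      rintro r (e | e)
      · exact e ▸ (mem_stab2.1 hv).1.2
      · exact hVfix v hv hc r e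
    have hd : ∀ {c}, IsThree P a c → Disjoint (insert a (orb P a o)) (orb P a c) := by
      intro c hc3
      rw [Set.disjoint_left]
      rintro r (e | e) hr
      · exact h.ne_of_mem_orb hc3.1 hr e
      · exact (h.three_orb hc3 hr).not_nine (h.nine_orb hx.nine e)
    have hno : ∀ c, IsThree P a c → (∀ r, r ∈ orb P a c ∨ r ∈ orb P a (w c) → v r = r) →
        ∀ d, IsThree P a d → (∀ r, r ∈ orb P a d ∨ r ∈ orb P a (w d) → v r ∈ orb P a d ∨ v r ∈ orb P a (w d)) →
        ((∀ r, r ∈ orb P a d ∨ r ∈ orb P a (w d) → v r = r) ∨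
          ((∀ r ∈ orb P a d, v r ∈ orb P a (w d)) ∧ (∀ r ∈ orb P a (w d), v r ∈ orb P a d))) →
        (∀ r, IsThree P a r → (r ∈ orb P a c ∨ r ∈ orb P a (w c)) ∨ (r ∈ orb P a d ∨ r ∈ orb P a (w d))) →
        False := by
      intro c hc3 hcf d hd3 _ hdp hcd
      rcases hdp with hdf | ⟨hds, hds'⟩
      · exact hv1 (h.stab2_eq_one hx hv fun r hr => (hcd r hr).elim (hcf r) (hdf r))
      · obtain ⟨hwc3, hwc', -⟩ := hw3 c hc3
        have hdd : Disjoint (orb P a c) (orb P a (w c)) := by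
          rw [Set.disjoint_left]
          intro z hz hz'
          apply hwc'
          rw [← orb_eq hz, orb_eq hz']
          exact mem_orb_self P a _
        have hset : fixS v = (insert a (orb P a o) ∪ orb P a c) ∪ orb P a (w c) := by
          ext r
          constructor
          · intro hr
            by_cases hra : r = a
            · exact Or.inl (Or.inl (Or.inl hra))
            rcases h.three_or_nine hra with e | e
            · rcases hcd r e with f | f
              · exact f.elim (fun f => Or.inl (Or.inr f)) Or.inr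
              · exfalso
                obtain ⟨-, hwd', -⟩ := hw3 d hd3
                apply hwd'
                have hr' : v r = r := hr
                rcases f with f | f
                · have h1 := hds r f; rw [hr'] at h1
                  rw [← orb_eq f, orb_eq h1]; exact mem_orb_self P a _
                · have h1 := hds' r f; rw [hr'] at h1
                  rw [← orb_eq h1, orb_eq f]; exact mem_orb_self P a _
            · exact Or.inl (Or.inl (Or.inr (h.nine_unique hx.nine e)))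
          · rintro ((hr | hr) | hr)
            exacts [hbase hr, hcf r (Or.inl hr), hcf r (Or.inr hr)]
        rw [hset, Set.ncard_union_eq (Set.disjoint_union_left.2 ⟨hd hwc3, hdd⟩),
          Set.ncard_union_eq (hd hc3), horb, hc3.2, hwc3.2] at h4
        omega
    rcases p1 with f1 | ⟨f1, f1'⟩
    · exact absurd (hno b₁ hb₁ f1 b₂ hb₂ (hVside2 v hv hc) p2 hall) id
    rcases p2 with f2 | ⟨f2, f2'⟩
    · exact absurd (hno b₂ hb₂ f2 b₁ hb₁ (hVside v hv hc) (Or.inr ⟨f1, f1'⟩) fun r hr => (hall r hr).symm) id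
    refine ⟨hvv, ?_, f1, f2, f1', f2'⟩
    have hnofix : ∀ c, IsThree P a c → w c ∉ orb P a c → (∀ r ∈ orb P a c, v r ∈ orb P a (w c)) →
        (∀ r ∈ orb P a (w c), v r ∈ orb P a c) → ∀ r, r ∈ orb P a c ∨ r ∈ orb P a (w c) → v r ≠ r := by
      intro c _ hwc f f' r hr hfix
      apply hwc
      rcases hr with e | e
      · have h1 := f r e; rw [hfix] at h1
        rw [← orb_eq e, orb_eq h1]; exact mem_orb_self P a _
      · have h1 := f' r e; rw [hfix] at h1
        rw [← orb_eq h1, orb_eq e]; exact mem_orb_self P a _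
    have hset : fixS v = insert a (orb P a o) := by
      refine Set.Subset.antisymm (fun r hr => ?_) hbase
      by_cases hra : r = a
      · exact Or.inl hra
      rcases h.three_or_nine hra with e | e
      · rcases hall r e with f | f
        · exact absurd hr (hnofix b₁ hb₁ hwb₁' f1 f1' r f)
        · exact absurd hr (hnofix b₂ hb₂ hwb₂' f2 f2' r f)
      · exact Or.inr (h.nine_unique hx.nine e)
    rw [hset, horb]
  have huniq : ∀ v ∈ stab2 G a o, ∀ v' ∈ stab2 G a o, (∀ x ∈ P a, v * x = x * v) →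
      (∀ x ∈ P a, v' * x = x * v') → v ≠ 1 → v' ≠ 1 → v' = v := by
    intro v hv v' hv' hc hc' h1 h1'
    obtain ⟨hvv, -, f1, -, -, -⟩ := hsq v hv hc h1
    obtain ⟨-, -, -, -, g1', -⟩ := hsq v' hv' hc' h1'
    by_contra hne
    have hne1 : v' * v ≠ 1 := fun e => hne (by
      calc v' = v' * (v * v) := by rw [hvv, mul_one]
        _ = v := by rw [← mul_assoc, e, one_mul])
    have hcc : ∀ x ∈ P a, (v' * v) * x = x * (v' * v) := fun x hxP =>
      ((show Commute v' x from hc' x hxP).mul_left (hc x hxP)).eq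
    obtain ⟨-, -, k1, -, -, -⟩ := hsq _ ((stab2 G a o).mul_mem hv' hv) hcc hne1
    apply hwb₁'
    have e1 : v' (v b₁) ∈ orb P a b₁ := g1' _ (f1 _ (mem_orb_self P a b₁))
    have e2 : v' (v b₁) ∈ orb P a (w b₁) := k1 b₁ (mem_orb_self P a b₁)
    rw [← orb_eq e1, orb_eq e2]
    exact mem_orb_self P a _
  -- counting
  let Φ : stab2 G a o → Perm α × Perm α := fun g =>
    ((g : Perm α) * q₁ * (g : Perm α)⁻¹, (g : Perm α) * q₂ * (g : Perm α)⁻¹)
  have hfib : ∀ g g' : stab2 G a o, Φ g = Φ g' →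
      ∀ x ∈ P a, ((g : Perm α)⁻¹ * g') * x = x * ((g : Perm α)⁻¹ * g') := by
    intro g g' e x hxP
    have hcl : closure ({q₁, q₂} : Set (Perm α)) ≤ centralizer ({(g : Perm α)⁻¹ * g'} : Set (Perm α)) := by
      refine (closure_le _).2 ?_
      have e1 : (g : Perm α) * q₁ * (g : Perm α)⁻¹ = g' * q₁ * (g' : Perm α)⁻¹ := congrArg Prod.fst e
      have e2 : (g : Perm α) * q₂ * (g : Perm α)⁻¹ = g' * q₂ * (g' : Perm α)⁻¹ := congrArg Prod.snd e
      rintro z (rfl | rfl)
      · refine mem_centralizer_iff.2 fun y hy => ?_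
        rw [Set.mem_singleton_iff.1 hy]
        calc ((g : Perm α)⁻¹ * g') * q₁ = (g : Perm α)⁻¹ * (g' * q₁ * (g' : Perm α)⁻¹) * g' := by group
          _ = q₁ * ((g : Perm α)⁻¹ * g') := by rw [← e1]; group
      · refine mem_centralizer_iff.2 fun y hy => ?_
        rw [Set.mem_singleton_iff.1 hy]
        calc ((g : Perm α)⁻¹ * g') * q₂ = (g : Perm α)⁻¹ * (g' * q₂ * (g' : Perm α)⁻¹) * g' := by group
          _ = q₂ * ((g : Perm α)⁻¹ * g') := by rw [← e2]; group
    exact mem_centralizer_iff.1 (hcl (hgen x hxP)) _ rfl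
  have hzp : ∀ {x y : Perm α}, orderOf x = 3 → y ∈ zpowers x → y ≠ 1 → y = x ∨ y = x⁻¹ := by
    intro x y hox hy hy1
    have hx3 : x ^ 3 = 1 := hox ▸ pow_orderOf_eq_one x
    obtain ⟨n, rfl⟩ := (mem_powers_iff_mem_zpowers.2 hy : y ∈ Submonoid.powers x)
    change x ^ n = x ∨ x ^ n = x⁻¹
    have hy1' : x ^ n ≠ 1 := hy1
    rw [pow_eq_pow_mod n hx3] at hy1' ⊢
    rcases (by omega : n % 3 = 0 ∨ n % 3 = 1 ∨ n % 3 = 2) with e | e | e <;> rw [e] at hy1' ⊢
    · exact absurd (pow_zero x) hy1'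
    · exact Or.inl (pow_one x)
    · exact Or.inr (by rw [eq_inv_iff_mul_eq_one, ← pow_succ, hx3])
  have hconj1 : ∀ (g : Perm α) {z : Perm α}, z ≠ 1 → g * z * g⁻¹ ≠ 1 := fun g z hz e => hz (by
    calc z = g⁻¹ * (g * z * g⁻¹) * g := by group
      _ = 1 := by rw [e]; group)
  have hcount : ∀ (S : Finset (Perm α × Perm α)) (T : Finset (stab2 G a o)), (∀ g ∈ T, Φ g ∈ S) →
      ∀ m, (∀ g ∈ T, (T.filter fun g' => Φ g' = Φ g).card ≤ m) → T.card ≤ S.card * m := by
    intro S T hS m hm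
    refine (Finset.card_le_mul_card_image (f := Φ) T m ?_).trans ?_
    · intro p hp
      obtain ⟨g, hg, rfl⟩ := Finset.mem_image.1 hp
      exact hm g hg
    · rw [mul_comm]
      exact Nat.mul_le_mul_right _ (Finset.card_le_card (Finset.image_subset_iff.2 hS))
  have hLcard : (Finset.univ : Finset (stab2 G a o)).card = 16 := by
    rw [Finset.card_univ, ← Nat.card_eq_fintype_card, (h.stab2_card hx).1]
  set S₁ : Finset (Perm α × Perm α) := ({q₁, q₁⁻¹} : Finset (Perm α)) ×ˢ ({q₂, q₂⁻¹} : Finset (Perm α))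
  set S₂ : Finset (Perm α × Perm α) := ({q₂, q₂⁻¹} : Finset (Perm α)) ×ˢ ({q₁, q₁⁻¹} : Finset (Perm α))
  have hS1c : S₁.card ≤ 4 := by
    rw [Finset.card_product]; exact Nat.mul_le_mul Finset.card_le_two Finset.card_le_two
  have hS2c : S₂.card ≤ 4 := by
    rw [Finset.card_product]; exact Nat.mul_le_mul Finset.card_le_two Finset.card_le_two
  have hΦmem : ∀ g : stab2 G a o, Φ g ∈ S₁ ∪ S₂ := by
    intro g
    rcases hperm g g.2 with ⟨e, e'⟩ | ⟨e, e'⟩
    · exact Finset.mem_union_left _ (Finset.mem_product.2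
        ⟨by simpa [Φ] using hzp ho1 e (hconj1 _ hq₁ne), by simpa [Φ] using hzp ho2 e' (hconj1 _ hq₂ne)⟩)
    · exact Finset.mem_union_right _ (Finset.mem_product.2
        ⟨by simpa [Φ] using hzp ho2 e (hconj1 _ hq₁ne), by simpa [Φ] using hzp ho1 e' (hconj1 _ hq₂ne)⟩)
  obtain ⟨v, hvL, hv1, hvc⟩ : ∃ v ∈ stab2 G a o, v ≠ 1 ∧ ∀ x ∈ P a, v * x = x * v := by
    by_contra hno
    push Not at hno
    have h1 := hcount (S₁ ∪ S₂) Finset.univ (fun g _ => hΦmem g) 1 fun g _ => by
      rw [Finset.card_le_one]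
      intro g₁ hg₁ g₂ hg₂
      simp only [Finset.mem_filter, Finset.mem_univ, true_and] at hg₁ hg₂
      by_contra hne
      obtain ⟨x, hxP, hxne⟩ := hno _ ((stab2 G a o).mul_mem ((stab2 G a o).inv_mem g₁.2) g₂.2)
        (fun e => hne (Subtype.ext (inv_mul_eq_one.1 e)))
      exact hxne (hfib g₁ g₂ (hg₁.trans hg₂.symm) x hxP)
    rw [hLcard] at h1
    have := Finset.card_union_le S₁ S₂
    omega
  refine ⟨q₁, hq₁.1, q₂, hq₂.1, v, hvL, hiff, hgen, fun g hg => ?_, ?_, hv1, hvc, (hsq v hvL hvc hv1).2.1,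
    fun v' hv' h1' hc' => huniq v hvL v' hv' hvc hc' hv1 h1'⟩
  · rcases hperm g hg with ⟨e, e'⟩ | ⟨e, e'⟩
    · refine ⟨Or.inl e, fun e2 => ?_⟩
      exfalso
      refine hconj1 g hq₁ne (hbot _ ?_ ?_)
      · rw [← hz1]; exact e
      · rw [← hz2]; exact e2
    · exact ⟨Or.inr e, fun _ => e'⟩
  · by_contra hno
    push Not at hno
    have h1 := hcount S₁ Finset.univ (fun g _ => by
      rcases Finset.mem_union.1 (hΦmem g) with e | e
      · exact e
      · exfalso
        obtain ⟨e1, -⟩ := Finset.mem_product.1 e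
        refine hno g g.2 ?_
        simp only [Finset.mem_insert, Finset.mem_singleton, Φ] at e1
        rcases e1 with e1 | e1 <;> rw [e1]
        exacts [mem_zpowers q₂, (zpowers q₂).inv_mem (mem_zpowers q₂)]) 2 fun g _ => by
      refine (Finset.card_le_card (t := ({g, g * ⟨v, hvL⟩} : Finset (stab2 G a o))) fun g' hg' => ?_).trans
        Finset.card_le_two
      simp only [Finset.mem_filter, Finset.mem_univ, true_and] at hg'
      simp only [Finset.mem_insert, Finset.mem_singleton]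
      by_cases he : (g : Perm α)⁻¹ * g' = 1
      · exact Or.inl (Subtype.ext (inv_mul_eq_one.1 he)).symm
      · right
        have h2 : (g : Perm α)⁻¹ * g' = v := huniq v hvL _
          ((stab2 G a o).mul_mem ((stab2 G a o).inv_mem g.2) g'.2) hvc (hfib g g' hg'.symm) hv1 he
        exact Subtype.ext (by
          rw [Subgroup.coe_mul]
          show (g' : Perm α) = g * v
          rw [← h2]; group)
    rw [hLcard] at h1
    omega

/-- The configuration with an orbit of length nine is impossible. -/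
theorem Cfg.false_of_nine (h : Cfg G P) (hnine : ∃ b q, IsNine P b q) (hwG : w ∈ G) (hoa : o ≠ a)
    (hww : w * w = 1) (hfw : fixS w = {a, o}) : False := by
  classical
  obtain ⟨hx, hx'⟩ := h.exists_ax hnine hwG hoa hww hfw
  obtain ⟨q₁, hq₁, q₂, hq₂, v, hv, hiff, hgen, hperm, ⟨τ, hτ, hτq⟩, hv1, hvc, hv10, hvuniq⟩ :=
    h.ax_structure hx
  obtain ⟨-, -, -, -, v', hv', -, -, -, -, hv'1, hv'c, hv'10, hv'uniq⟩ := h.ax_structure hx'
  have hswap : ∀ {g : Perm α}, g ∈ stab2 G a o → g ∈ stab2 G o a := fun {g} hg => by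
    obtain ⟨⟨h1, h2⟩, h3⟩ := mem_stab2.1 hg
    exact mem_stab2.2 ⟨⟨h1, h3⟩, h2⟩
  obtain ⟨⟨hv'G, hv'o⟩, hv'a⟩ := mem_stab2.1 hv'
  have hv'L : v' ∈ stab2 G a o := mem_stab2.2 ⟨⟨hv'G, hv'a⟩, hv'o⟩
  have notV : ¬ ∀ x ∈ P a, v' * x = x * v' := by
    intro hc
    have hfix : ∀ b, v' b = b → b = a ∨ b ∈ orb P a o := by
      have hsub : insert a (orb P a o) ⊆ fixS v' := by
        rintro r (e | e)
        · exact e ▸ hv'a
        · obtain ⟨x, hxP, rfl⟩ := mem_orb.1 e
          show v' (x o) = x o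
          rw [← Perm.mul_apply, hc x hxP, Perm.mul_apply, hv'o]
      have heq := Set.eq_of_subset_of_ncard_le hsub
        (by rw [hv'10, Set.ncard_insert_of_notMem (h.self_notMem_orb hoa), hx.nine.2])
      intro b hb
      have : b ∈ insert a (orb P a o) := heq.symm ▸ (hb : b ∈ fixS v')
      exact this
    have hd := h.fixS_dvd hv'a (fun b hb => by
      rcases hfix b hb with e | e
      · exact e ▸ hc
      · obtain ⟨x, hxP, rfl⟩ := mem_orb.1 e
        intro y hy
        have hxv : Commute v' x := hc x hxP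
        have h1 : x⁻¹ * y * x⁻¹⁻¹ ∈ P o := by
          have := h.conj x⁻¹ (G.inv_mem (h.le a hxP)) (x o) y hy
          rwa [show x⁻¹ (x o) = o by simp] at this
        have h2 : Commute v' (x⁻¹ * y * x⁻¹⁻¹) := hv'c _ h1
        have h3 : Commute v' (x * (x⁻¹ * y * x⁻¹⁻¹) * x⁻¹) := (hxv.mul_right h2).mul_right hxv.inv_right
        have e3 : x * (x⁻¹ * y * x⁻¹⁻¹) * x⁻¹ = y := by group
        rw [e3] at h3
        exact h3.eq)
    rw [hv'10, h.card_G a, (h.stab2_card hx).2] at hd
    norm_num at hd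
  have hcentral : τ * v' * τ⁻¹ = v' := by
    obtain ⟨⟨hτG, hτa⟩, hτo⟩ := mem_stab2.1 hτ
    refine hv'uniq _ ((stab2 G o a).mul_mem ((stab2 G o a).mul_mem (hswap hτ) hv')
      ((stab2 G o a).inv_mem (hswap hτ))) (fun e => hv'1 ?_) fun x hxP => ?_
    · calc v' = τ⁻¹ * (τ * v' * τ⁻¹) * τ := by group
        _ = 1 := by rw [e]; group
    · have h1 : τ⁻¹ * x * τ⁻¹⁻¹ ∈ P o :=
        h.conj_mem_self (G.inv_mem hτG) (Perm.inv_eq_iff_eq.2 hτo.symm) hxP
      calc (τ * v' * τ⁻¹) * x = τ * (v' * (τ⁻¹ * x * τ⁻¹⁻¹)) * τ⁻¹ := by group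
        _ = τ * ((τ⁻¹ * x * τ⁻¹⁻¹) * v') * τ⁻¹ := by rw [hv'c _ h1]
        _ = x * (τ * v' * τ⁻¹) := by group
  have hcomm : ∀ z, τ * (v' * z * v'⁻¹) * τ⁻¹ = v' * (τ * z * τ⁻¹) * v'⁻¹ := by
    intro z
    calc τ * (v' * z * v'⁻¹) * τ⁻¹ = (τ * v' * τ⁻¹) * (τ * z * τ⁻¹) * (τ * v' * τ⁻¹)⁻¹ := by group
      _ = _ := by rw [hcentral]
  have hcl : ∀ (f : Perm α →* Perm α), f q₁ = q₁ → f q₂ = q₂ → ∀ x ∈ P a, f x = x :=
    fun f h1 h2 x hxP => MonoidHom.eqOn_closure (f := f) (g := MonoidHom.id _)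
      (by rintro z (rfl | rfl) <;> assumption) (hgen x hxP)
  rcases (hperm v' hv'L).1 with e | e
  · -- the two lines are preserved
    obtain ⟨i, hi⟩ := hτq
    change q₂ ^ i = τ * q₁ * τ⁻¹ at hi
    have hq2gen : q₂ ∈ zpowers (τ * q₁ * τ⁻¹) := by
      have h1 : q₂ ^ 3 = 1 := h.nine_cube hx.nine hq₂
      have hne : τ * q₁ * τ⁻¹ ≠ 1 := by
        intro e1
        have e2 : q₁ = 1 := by
          calc q₁ = τ⁻¹ * (τ * q₁ * τ⁻¹) * τ := by group
            _ = 1 := by rw [e1]; group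
        obtain ⟨r, hr⟩ : ∃ r, IsThree P a r := by
          have h12 := h.threePts_card hx.nine
          obtain ⟨r, hr⟩ := (Set.ncard_pos (Set.toFinite (threePts P a))).1 (by omega)
          exact ⟨r, hr⟩
        have hq2 : ∀ s, IsThree P a s → q₂ s ≠ s := fun s hs => (hiff s hs).1 (by rw [e2]; rfl)
        have hcyc : P a ≤ zpowers q₂ := fun x hxP => by
          refine ((closure_le _).2 ?_) (hgen x hxP)
          rintro z (rfl | rfl)
          exacts [e2.symm ▸ one_mem _, mem_zpowers z]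
        have hle := Nat.le_of_dvd Nat.card_pos (card_dvd_of_le hcyc)
        rw [(h.nine_regular hx.nine).1, Nat.card_zpowers] at hle
        have := Nat.le_of_dvd (by norm_num) (orderOf_dvd_of_pow_eq_one h1)
        omega
      refine mem_zpowers_iff.2 ?_
      have hmod : q₂ ^ i = q₂ ^ (i % 3) := by
        conv_lhs => rw [← Int.emod_add_mul_ediv i 3]
        rw [zpow_add, zpow_mul, zpow_ofNat, h1, one_zpow, mul_one]
      rw [hmod] at hi
      rcases (by omega : i % 3 = 0 ∨ i % 3 = 1 ∨ i % 3 = 2) with e1 | e1 | e1 <;> rw [e1] at hi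
      · exact absurd (hi.symm.trans (zpow_zero q₂)) hne
      · exact ⟨1, by rw [← hi]; simp⟩
      · refine ⟨2, ?_⟩
        rw [← hi]
        show (q₂ ^ (2 : ℤ)) ^ (2 : ℤ) = q₂
        rw [← zpow_mul, show ((2 : ℤ) * 2) = ((3 + 1 : ℕ) : ℤ) by norm_num, zpow_natCast, pow_succ, h1,
          one_mul]
    obtain ⟨k, hk⟩ := hq2gen
    change (τ * q₁ * τ⁻¹) ^ k = q₂ at hk
    have hq13 : q₁ ^ 3 = 1 := h.nine_cube hx.nine hq₁
    obtain ⟨j, hj⟩ := e
    change q₁ ^ j = v' * q₁ * v'⁻¹ at hj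
    have hmod : q₁ ^ j = q₁ ^ (j % 3) := by
      conv_lhs => rw [← Int.emod_add_mul_ediv j 3]
      rw [zpow_add, zpow_mul, zpow_ofNat, hq13, one_zpow, mul_one]
    rw [hmod] at hj
    set m := j % 3 with hm
    have hj2 : v' * q₂ * v'⁻¹ = q₂ ^ m := by
      rw [← hk, ← MulAut.conj_apply, map_zpow, MulAut.conj_apply, ← hcomm, ← hj, ← zpow_mul,
        mul_comm, zpow_mul]
      congr 1
      rw [← MulAut.conj_apply, map_zpow, MulAut.conj_apply]
    rcases (by omega : m = 0 ∨ m = 1 ∨ m = 2) with e1 | e1 | e1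
    · rw [e1, zpow_zero] at hj hj2
      apply notV
      intro x hxP
      exfalso
      have hone1 : q₁ = 1 := by
        calc q₁ = v'⁻¹ * (v' * q₁ * v'⁻¹) * v' := by group
          _ = 1 := by rw [← hj]; group
      have hone2 : q₂ = 1 := by
        calc q₂ = v'⁻¹ * (v' * q₂ * v'⁻¹) * v' := by group
          _ = 1 := by rw [hj2]; group
      obtain ⟨r, hr⟩ := (Set.ncard_pos (Set.toFinite (threePts P a))).1
        (by rw [h.threePts_card hx.nine]; norm_num)
      exact (hiff r hr).1 (by rw [hone1]; rfl) (by rw [hone2]; rfl)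
    · rw [e1, zpow_one] at hj hj2
      apply notV
      intro x hxP
      have := hcl (MulAut.conj v').toMonoidHom hj.symm hj2 x hxP
      change v' * x * v'⁻¹ = x at this
      calc v' * x = (v' * x * v'⁻¹) * v' := by group
        _ = x * v' := by rw [this]
    · -- `v'` inverts `P a`
      rw [e1, zpow_ofNat] at hj hj2
      have hinv : ∀ x ∈ P a, v' * x * v'⁻¹ = x ^ 2 := by
        intro x hxP
        refine closure_induction (p := fun z _ => z ∈ P a → v' * z * v'⁻¹ = z ^ 2) ?_ ?_ ?_ ?_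
          (hgen x hxP) hxP
        · rintro z (rfl | rfl) _
          exacts [hj.symm, hj2]
        · intro _; simp
        · intro x y hxm hym ihx ihy _
          have hle : closure ({q₁, q₂} : Set (Perm α)) ≤ P a := (closure_le _).2 (by
            rintro z (rfl | rfl) <;> assumption)
          rw [← MulAut.conj_apply, map_mul, MulAut.conj_apply, MulAut.conj_apply, ihx (hle hxm),
            ihy (hle hym), (show Commute x y from h.nine_comm hx.nine (hle hxm) (hle hym)).mul_pow]
        · intro x hxm ih hxi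
          have hxP' : x ∈ P a := inv_inv x ▸ (P a).inv_mem hxi
          rw [← MulAut.conj_apply, map_inv, MulAut.conj_apply, ih hxP', inv_pow]
      have hle : ∀ B : Blk P a, (Finset.univ.filter fun q => q ∈ B.1 ∧ v' q = q).card ≤ 1 := by
        intro B
        rw [Finset.card_le_one]
        intro r hr s hs
        simp only [Finset.mem_filter, Finset.mem_univ, true_and] at hr hs
        have hs' : s ∈ orb P a r := by rw [h.orb_of_mem_blk hr.1]; exact hs.1
        obtain ⟨x, hxP, rfl⟩ := mem_orb.1 hs'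
        have h1 : (v' * x * v'⁻¹) (v' r) = x r := by simpa using hs.2
        rw [hinv x hxP, hr.2, pow_two, Perm.mul_apply] at h1
        exact (x.injective h1).symm
      have hcount := h.fixS_count hv'a
      have hsum := Finset.sum_le_sum (s := (Finset.univ : Finset (Blk P a))) fun B _ => hle B
      rw [Finset.sum_const, Finset.card_univ, smul_eq_mul, mul_one] at hsum
      have hblk : Fintype.card (Blk P a) ≤ 7 := by
        rw [Fintype.card_coe]
        have hs := h.sum_blocks a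
        have h3 : ∀ B ∈ blocks P a, 3 ≤ B.ncard := by
          intro B hB
          obtain ⟨q, hq, rfl⟩ := mem_blocks.1 hB
          rcases h.orb_card hq with e | e <;> omega
        have := Finset.card_nsmul_le_sum (blocks P a) (fun B => B.ncard) 3 h3
        rw [smul_eq_mul] at this
        omega
      have e10 : (10 : ℕ) = 1 + ∑ B : Blk P a, (Finset.univ.filter fun q => q ∈ B.1 ∧ v' q = q).card := by
        rw [← hv'10]
        convert hcount using 3
      omega
  · -- the two lines are exchanged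
    have e2 := (hperm v' hv'L).2 e
    have hfix : ∀ r, IsThree P a r → v' r ≠ r := by
      intro r hr hfx
      have h1 : ∀ {x y : Perm α}, v' * x * v'⁻¹ ∈ zpowers y → y r = r → x r = r := by
        intro x y hxy hy
        obtain ⟨k, hk⟩ := hxy
        change y ^ k = v' * x * v'⁻¹ at hk
        have : (v' * x * v'⁻¹) r = r := by rw [← hk]; exact zpow_apply_eq_self_of_apply_eq_self hy k
        rw [Perm.mul_apply, Perm.mul_apply, Perm.inv_eq_iff_eq.2 hfx.symm] at this
        exact v'.injective (this.trans hfx.symm)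
      by_cases h2 : q₂ r = r
      · exact (hiff r hr).1 (h1 e h2) h2
      · exact h2 (h1 e2 ((hiff r hr).2 h2))
    have hset : fixS v' = insert a (orb P a o) := by
      refine Set.eq_of_subset_of_ncard_le (fun r hr => ?_)
        (by rw [hv'10, Set.ncard_insert_of_notMem (h.self_notMem_orb hoa), hx.nine.2])
      by_cases hra : r = a
      · exact Or.inl hra
      rcases h.three_or_nine hra with e' | e'
      · exact absurd hr (hfix r e')
      · exact Or.inr (h.nine_unique hx.nine e')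
    apply notV
    intro x hxP
    have hxo : v' (x o) = x o := by
      have : x o ∈ fixS v' := hset ▸ Or.inr (mem_orb.2 ⟨x, hxP, rfl⟩)
      exact this
    have h1 : ((v' * x * v'⁻¹)⁻¹ * x) o = o := by
      simp only [mul_inv_rev, inv_inv, Perm.mul_apply]
      rw [Perm.inv_eq_iff_eq.2 hxo.symm]
      simp [hv'o]
    have h2 := (h.nine_regular hx.nine).2 _
      ((P a).mul_mem ((P a).inv_mem (h.conj_mem_self hv'G hv'a hxP)) hxP) o hx.nine h1
    rw [inv_mul_eq_one] at h2
    calc v' * x = (v' * x * v'⁻¹) * v' := by group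
      _ = x * v' := by rw [h2]

end Cfsg.Lib.SolvStruct.TwentyTwo
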